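import Cfsg.Agent.H73.Rg.HCore

/-!
# Two half classes (helper73)

* `redH` : reducedness from `Good`;
* `mainR` : a subgroup containing at least half of two classes and reduced for them has a normal simple subgroup of Lie
  type in the characteristic;
* `mainH` : the same from `Good`;
* `sepH` : the separation hypothesis from the divisibilities.
-/

set_option autoImplicit false

namespace Cfsg.Agent.H73.Rg

open Cfsg Cfsg.Agent.OrdDiv Cfsg.Agent.H436 Cfsg.Agent.H902 Cfsg.Agent.H902.Names Cfsg.Agent.H915.GN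
  Cfsg.Agent.H290.ElReg Cfsg.Agent.H290.ElTab Cfsg.Agent.H290.ElCross Cfsg.Agent.H264.FKS Cfsg.Agent.H56.Exc
  Cfsg.Agent.H325.Loc Cfsg.Agent.H563.KG

variable {n p f : ℕ} {fam : List ℕ} {M E : ℕ → ℕ}

/-- reducedness from `Good` -/
theorem redH (hcyc : CycFixSolv.{0}) (hp : p.Prime) (hf : 1 ≤ f) {F : Type} [Field F] [CharP F p]
    {T : Type} [Group T] [Finite T] (hrep : Fth n F T)
    (hbig : ∀ c ∈ fam, ∀ r, Prim (p ^ f) c r → Big T r (M c) (E c))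
    {c₀ r₀ : ℕ} (hc₀ : c₀ ∈ fam) (hr₀ : Prim p (f * c₀) r₀) (hpiso : PIso p r₀ T)
    {B : Subgroup T} (hr₀B : r₀ ∣ Nat.card B)
    (hgood : ∀ t : ℕ, t.Prime → t ≠ p → (∀ c ∈ fam, ¬ Prim p (f * c) t) → t ∣ Nat.card B → Good B n t) :
    Red ↥B (Pr (FmH p f fam M E (Nat.card B))) := by
  have := Fact.mk hp
  obtain ⟨τ, hτ⟩ := hrep.sub B.subtype B.subtype_injective
  refine red_of hcyc hτ (fun A hA hAp => pcore_of_piso (hpiso.sub B) hr₀B A hA hAp)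
    (pr_fmH.2 ⟨c₀, hc₀, hr₀, hr₀B⟩) hr₀.prime hr₀B
    (fun x hx => ((hbig c₀ hc₀ r₀ (prim_q hf hr₀)).subgroup B).cyc x hx) fun t ht htp htn htB => ?_
  rw [Fintype.card_fin]
  exact hgood t ht htp (fun c hc h => htn (pr_fmH.2 ⟨c, hc, h, htB⟩)) htB

/-- the simple normal subgroup of a reduced subgroup -/
theorem coreR (hcyc : CycFixSolv.{0}) (hf : 1 ≤ f) {T : Type} [Group T] [Finite T]
    (hbig : ∀ c ∈ fam, ∀ r, Prim (p ^ f) c r → Big T r (M c) (E c))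
    {B : Subgroup T} (hfam : fam ≠ []) (hsep : ∀ c ∈ fam, ¬ Nat.card B ∣ E c * M c)
    (hne : ∀ c ∈ fam, ∃ r, Prim p (f * c) r ∧ r ∣ Nat.card B)
    (hred : Red ↥B (Pr (FmH p f fam M E (Nat.card B)))) :
    ∃ (S : Subgroup B) (_ : S.Normal) (_ : IsSimpleGroup S), ¬ IsMulCommutative S ∧
      (∀ c ∈ fam, S.index ∣ E c * M c) ∧
      (∀ c ∈ fam, ∀ r, Prim p (f * c) r → r ∣ Nat.card B →
        Big S r (M c) (E c) ∧ r ∣ Nat.card S ∧ ¬ r ∣ S.index) := by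
  obtain ⟨c₀, hc₀⟩ := List.exists_mem_of_ne_nil fam hfam
  obtain ⟨r₀, hr₀, hr₀B⟩ := hne c₀ hc₀
  have hrf : RFam ↥B (FmH p f fam M E (Nat.card B)) :=
    { big := by
        rintro r m e ⟨c, hc, h, -, rfl, rfl⟩
        exact (hbig c hc r (prim_q hf h)).subgroup B
      dvd := by
        rintro r m e ⟨c, hc, h, hN, rfl, rfl⟩
        exact hN
      sep := by
        rintro r m e ⟨c, hc, h, -, rfl, rfl⟩
        exact hsep c hc }
  obtain ⟨S, hSn, hSs, hSna, hS⟩ :=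
    hrf.exists_full hcyc hred (r₁ := r₀) (m₁ := M c₀) (e₁ := E c₀) ⟨c₀, hc₀, hr₀, hr₀B, rfl, rfl⟩
  refine ⟨S, hSn, hSs, hSna, fun c hc => ?_, fun c hc r h hrB => ?_⟩
  · obtain ⟨r, hr, hrB⟩ := hne c hc
    exact (hS r (M c) (E c) ⟨c, hc, hr, hrB, rfl, rfl⟩).2.2.2
  · obtain ⟨h1, h2, h3, -⟩ := hS r (M c) (E c) ⟨c, hc, h, hrB, rfl, rfl⟩
    exact ⟨h1, h2, h3⟩

/-- the conclusion of the two-class argument -/
structure ConH (p f : ℕ) (M E : ℕ → ℕ) (e e' : ℕ) {B : Type} [Group B] (S : Subgroup B) : Prop where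
  nor : S.Normal
  simple : IsSimpleGroup S
  nc : ¬ IsMulCommutative S
  idx : ∀ c ∈ [e, e'], S.index ∣ E c * M c
  prs : ∀ c ∈ [e, e'], ∀ r, Prim p (f * c) r → r ∣ Nat.card B → Big S r (M c) (E c) ∧ r ∣ Nat.card S ∧ ¬ r ∣ S.index
  half : ∀ c ∈ [e, e'], PP p (f * c) ≤ (Nat.gcd (Nat.card S) (PP p (f * c))) ^ 2
  h1 : ∀ c ∈ [e, e'], ∃ r, Prim p (f * c) r ∧ r ∣ Nat.card S

/-- **Two half classes.** -/
theorem mainR (tb : OrderTable.{0}) (hcyc : CycFixSolv.{0})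
    (hcfsg : ∀ (S : Type) [Group S] [Finite S] [IsSimpleGroup S], IsKnownSimple' S) (haut : AltAut)
    {D : TD} {exc : List (Art.Sh × ℕ × ℕ)} (ht : TblH n D exc (E D.e) (E D.e'))
    (hp : p.Prime) (hf : 1 ≤ f) (hq : D.q₀ ≤ p ^ f) {F : Type} [Field F] [CharP F p]
    {T : Type} [Group T] [Finite T] (hrep : Fth n F T) (hdT : Nat.card T ∣ OL D.Y (p ^ f))
    (hbig : ∀ c ∈ [D.e, D.e'], ∀ r, Prim (p ^ f) c r → Big T r (M c) (E c))
    {B : Subgroup T} (h1 : HAt p f D.e B) (h2 : HAt p f D.e' B)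
    (hsep : ∀ c ∈ [D.e, D.e'], ¬ Nat.card B ∣ E c * M c)
    (hex : ∀ c ∈ D.exs, ∃ s, Prim p (f * c) s ∧ s ∣ Nat.card B ∧ ¬ s ∣ E D.e * M D.e)
    (hred : Red ↥B (Pr (FmH p f [D.e, D.e'] M E (Nat.card B))))
    (hexc : ∀ (S : Subgroup B), ConH p f M E D.e D.e' S → ∀ g l X a, l.Prime → IsNamed g S → IsLie g X l a →
      (X, (l, a)) ∈ exc → False) :
    ∃ S : Subgroup B, ConH p f M E D.e D.e' S ∧ ∃ g, IsNamed g S ∧ HasChar p g := by
  have h5 := ht.ok.e7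
  have h5' := ht.ok.e7'
  have h6 := ht.ok.ne6
  have h6' := ht.ok.ne6'
  have hH : ∀ c ∈ [D.e, D.e'], HAt p f c B := by
    intro c hc
    simp only [List.mem_cons, List.not_mem_nil, or_false] at hc
    rcases hc with rfl | rfl
    · exact h1
    · exact h2
  have hc5 : ∀ c ∈ [D.e, D.e'], 5 ≤ c ∧ c ≠ 6 := by
    intro c hc
    simp only [List.mem_cons, List.not_mem_nil, or_false] at hc
    rcases hc with rfl | rfl
    · exact ⟨by omega, h6⟩
    · exact ⟨by omega, h6'⟩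
  obtain ⟨S, hSn, hSs, hSna, hidx, hbS⟩ := coreR hcyc hf hbig (by simp) hsep
    (fun c hc => (hH c hc).exists_prim hp.two_le hf (hc5 c hc).1 (hc5 c hc).2) hred
  have hc3 : ∀ c ∈ [D.e, D.e'], 3 ≤ f * c := by
    intro c hc
    have h7 := (hc5 c hc).1
    have : 1 * c ≤ f * c := Nat.mul_le_mul_right _ hf
    omega
  have hhalf : ∀ c ∈ [D.e, D.e'], PP p (f * c) ≤ (Nat.gcd (Nat.card S) (PP p (f * c))) ^ 2 := fun c hc =>
    half_S hp.two_le (hc3 c hc) S (hH c hc).half fun r hr hrB => (hbS c hc r hr hrB).2.2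
  have hcon : ConH p f M E D.e D.e' S := ⟨hSn, hSs, hSna, hidx, hbS, hhalf, fun c hc =>
    exists_of_half hp.two_le (hc3 c hc) (fun h8 => mul6 hf (hc5 c hc).1 (hc5 c hc).2 h8.2) (hhalf c hc)⟩
  have hSs' : IsSimpleGroup S := hSs
  have hdS : Nat.card S ∣ OL D.Y (p ^ f) :=
    ((Subgroup.card_subgroup_dvd_card S).trans (Subgroup.card_subgroup_dvd_card B)).trans hdT
  have me : D.e ∈ [D.e, D.e'] := by simp
  have me' : D.e' ∈ [D.e, D.e'] := by simp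
  refine ⟨S, hcon, nameH (N := M D.e) (N' := M D.e') tb haut ht hp hf hq hSna (hcfsg S)
    ((hrep.sub B.subtype B.subtype_injective).sub S.subtype S.subtype_injective) hdS (hhalf _ me) (hhalf _ me') ?_ ?_ ?_
    (hexc S hcon)⟩
  · intro c hc
    obtain ⟨s, hs, hsB, hsn⟩ := hex c hc
    refine ⟨s, hs, ?_⟩
    rw [← S.card_mul_index] at hsB
    rcases hs.prime.dvd_mul.1 hsB with h | h
    · exact h
    · exact absurd (h.trans (hidx _ me)) hsn
  · exact fun r hr hrS => (hbS _ me r hr (hrS.trans (Subgroup.card_subgroup_dvd_card S))).1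
  · exact fun r hr hrS => (hbS _ me' r hr (hrS.trans (Subgroup.card_subgroup_dvd_card S))).1

/-- **Two half classes, reducedness by `Good`.** -/
theorem mainH (tb : OrderTable.{0}) (hcyc : CycFixSolv.{0})
    (hcfsg : ∀ (S : Type) [Group S] [Finite S] [IsSimpleGroup S], IsKnownSimple' S) (haut : AltAut)
    {D : TD} {exc : List (Art.Sh × ℕ × ℕ)} (ht : TblH n D exc (E D.e) (E D.e'))
    (hp : p.Prime) (hf : 1 ≤ f) (hq : D.q₀ ≤ p ^ f) {F : Type} [Field F] [CharP F p]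
    {T : Type} [Group T] [Finite T] (hrep : Fth n F T) (hdT : Nat.card T ∣ OL D.Y (p ^ f))
    (hbig : ∀ c ∈ [D.e, D.e'], ∀ r, Prim (p ^ f) c r → Big T r (M c) (E c))
    {B : Subgroup T} (h1 : HAt p f D.e B) (h2 : HAt p f D.e' B)
    (hsep : ∀ c ∈ [D.e, D.e'], ¬ Nat.card B ∣ E c * M c)
    (hex : ∀ c ∈ D.exs, ∃ s, Prim p (f * c) s ∧ s ∣ Nat.card B ∧ ¬ s ∣ E D.e * M D.e)
    {c₀ : ℕ} (hc₀ : c₀ ∈ [D.e, D.e']) (hpiso : ∀ r, Prim (p ^ f) c₀ r → PIso p r T)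
    (hgood : ∀ t : ℕ, t.Prime → t ≠ p → ¬ Prim p (f * D.e) t → ¬ Prim p (f * D.e') t → t ∣ Nat.card B → Good B n t)
    (hexc : ∀ (S : Subgroup B), ConH p f M E D.e D.e' S → ∀ g l X a, l.Prime → IsNamed g S → IsLie g X l a →
      (X, (l, a)) ∈ exc → False) :
    ∃ S : Subgroup B, ConH p f M E D.e D.e' S ∧ ∃ g, IsNamed g S ∧ HasChar p g := by
  have hH : HAt p f c₀ B ∧ 5 ≤ c₀ ∧ c₀ ≠ 6 := by
    simp only [List.mem_cons, List.not_mem_nil, or_false] at hc₀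
    rcases hc₀ with rfl | rfl
    · exact ⟨h1, by have := ht.ok.e7; omega, ht.ok.ne6⟩
    · exact ⟨h2, by have := ht.ok.e7'; omega, ht.ok.ne6'⟩
  obtain ⟨r₀, hr₀, hr₀B⟩ := hH.1.exists_prim hp.two_le hf hH.2.1 hH.2.2
  exact mainR tb hcyc hcfsg haut ht hp hf hq hrep hdT hbig h1 h2 hsep hex
    (redH hcyc hp hf hrep hbig hc₀ hr₀ (hpiso r₀ (prim_q hf hr₀)) hr₀B fun t ht1 htp htc htB =>
      hgood t ht1 htp (htc _ (by simp)) (htc _ (by simp)) htB) hexc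

/-- the separation hypothesis for two classes not dividing each other -/
theorem sepH {e e' : ℕ} (hp : p.Prime) (hf : 1 ≤ f) {T : Type} [Group T] [Finite T] {B : Subgroup T}
    (h7 : 7 ≤ e) (h7' : 7 ≤ e') (h1 : HAt p f e B) (h2 : HAt p f e' B)
    (hM : ∀ c ∈ [e, e'], M c ∣ (p ^ f) ^ c - 1)
    (hE : ∀ c ∈ [e, e'], ∀ s, s.Prime → s ∣ E c → s ≤ 7) (hnd : ¬ e' ∣ e) (hnd' : ¬ e ∣ e') :
    ∀ c ∈ [e, e'], ¬ Nat.card B ∣ E c * M c := by
  have key : ∀ c c', 7 ≤ c' → HAt p f c' B → M c ∣ (p ^ f) ^ c - 1 → (∀ s, s.Prime → s ∣ E c → s ≤ 7) → ¬ c' ∣ c →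
      ¬ Nat.card B ∣ E c * M c := by
    intro c c' hc7 hc' hMc hEc hnd hcon
    obtain ⟨s, hs, hsB⟩ := hc'.exists_prim hp.two_le hf (by omega) (by omega)
    have hs' := prim_q hf hs
    have hq2 : 2 ≤ p ^ f := hp.two_le.trans (Nat.le_self_pow (by omega) p)
    rcases hs.prime.dvd_mul.1 (hsB.trans hcon) with h3 | h3
    · have h4 := hEc s hs.prime h3
      have h5 := lt_of_prim hq2 (by omega) hs'
      omega
    · exact hnd ((hs'.dvd_iff c).1 (h3.trans hMc))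
  intro c hc
  have hc' := hc
  simp only [List.mem_cons, List.not_mem_nil, or_false] at hc'
  rcases hc' with rfl | rfl
  · exact key _ _ h7' h2 (hM _ hc) (hE _ hc) hnd
  · exact key _ _ h7 h1 (hM _ hc) (hE _ hc) hnd'

end Cfsg.Agent.H73.Rg
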