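import Cfsg.Agent.H73.Rg.HMain
import Cfsg.Agent.H427.Rg.Aut

/-!
# The automizers in the alternating groups, `PSL₂(l)` (helper73, from helper427)
-/

set_option autoImplicit false

namespace Cfsg.Agent.H73.Rg

open Cfsg Cfsg.Agent.H56.Exc

theorem altAut : AltAut := fun h Φ h5 hd => Cfsg.Agent.H427.Rg.alt_aut h Φ h5 hd

end Cfsg.Agent.H73.Rg
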