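import Cfsg.Agent.H72.Same.One
import Cfsg.Agent.H325.Same.ExcF4

/-!
# `F_4(q)`, one prime of each of the classes 8 and 12 (helper73, after helper325's `charp_f4`)
-/

set_option autoImplicit false

namespace Cfsg.Agent.H73.Rg

open Cfsg.Agent.OrdDiv Cfsg.Agent.H436 Cfsg.Agent.H915.GN Cfsg.Agent.H264.GN Cfsg.Agent.H264.FKS
open Cfsg.Agent.H325.Same Cfsg.Agent.H72.Same

variable {p f c : ℕ} {g : Grp}

/-- **`F_4(q)`, classes 8 and 12.** -/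
theorem charp_f4_812 (hp : p.Prime) (hf : 1 ≤ f) (hg : Cond g) (hch : HasChar p g)
    (hc : den g * c = num g) (hdvd : c ∣ num (.f4 (p ^ f))) (hs1 : H1 p f 8 c) (hs2 : H1 p f 12 c) :
    g = .f4 (p ^ f) ∨ g = .psl 3 (p ^ (4 * f)) := by
  obtain ⟨f₁, hf₁, hfl, hK, hY⟩ := kd_all hp hg hch hc
  obtain ⟨i, hi, hei, hfM, h2, h1, h3, hYc⟩ := compPo hp hf hf₁ hK hY (td_f4 hp hf hdvd)
    (by norm_num) (by norm_num) hs1 hs2
  have hq : 2 ≤ p ^ f := hp.two_le.trans (Nat.le_self_pow (by omega) _)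
  obtain ⟨s, hs4⟩ := exists_prim (q := p ^ f) (e := 4) hq (by norm_num) (by omega)
  have hd : c ∣ (p ^ f) ^ 24 * (((p ^ f) ^ 2 - 1) * ((p ^ f) ^ 6 - 1) * ((p ^ f) ^ 8 - 1) * ((p ^ f) ^ 12 - 1)) := hdvd
  have b2 := sub_pos' (d := 2) hq (by norm_num)
  have b4 := sub_pos' (d := 4) hq (by norm_num)
  have b6 := sub_pos' (d := 6) hq (by norm_num)
  have b8 := sub_pos' (d := 8) hq (by norm_num)
  have b12 := sub_pos' (d := 12) hq (by norm_num)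
  have hc0 : 0 < c := pos_of_dvd (by positivity) hd
  have hy : ¬ s ∣ ((p ^ f) ^ 2 - 1) * ((p ^ f) ^ 6 - 1) := fun h => by
    rcases hs4.prime.dvd_mul.1 h with h | h
    · exact hs4.not_dvd_sub (by norm_num) h
    · exact hs4.not_dvd_sub (by norm_num) h
  have hs5 : 5 ≤ s := by
    have := lt_of_prim hs4
    omega
  have hx : s ∣ (p ^ f) ^ 4 - 1 := hs4.dvd dvd_rfl
  rcases elimP_f4_8_12 hg hch hi hei h2 h1 h3 hYc with ⟨rfl, q, rfl⟩ | ⟨rfl, q, rfl⟩ | ⟨rfl, q, rfl⟩ |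
    ⟨rfl, q, rfl⟩ | ⟨rfl, q, rfl⟩ | ⟨rfl, q, rfl⟩
  · right
    obtain rfl : q = p ^ f₁ := hfl
    have h5 : f₁ * 3 = f * 12 := hfM
    obtain rfl : f₁ = 4 * f := by omega
    rfl
  · exfalso
    obtain rfl : q = p ^ f₁ := hfl
    have h5 : f₁ * (2 * 3) = f * 12 := hfM
    obtain rfl : f₁ = f * 2 := by omega
    have h6 : Nat.gcd 2 (p ^ (f * 2) - 1) * c = (p ^ (f * 2)) ^ (3 ^ 2) * prB (p ^ (f * 2)) 3 := hc
    refine cancel_prime hs4.prime (Z := ((p ^ f) ^ 8 - 1) * ((p ^ f) ^ 12 - 1)) (by positivity) hc0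
      (A := (p ^ (f * 2)) ^ (3 ^ 2)) (x := (p ^ f) ^ 4 - 1) (D := Nat.gcd 2 (p ^ (f * 2) - 1)) (B := (p ^ f) ^ 24) ?_ ?_ hx
      (fun h => ?_) (hs4.not_dvd_pow _) hy
    · rw [h6, prB_three']
    · exact hd.trans (dvd_of_eq (by ring))
    · have := Nat.le_of_dvd (by norm_num) (h.trans (Nat.gcd_dvd_left _ _))
      omega
  · exfalso
    obtain rfl : q = p ^ f₁ := hfl
    have h5 : f₁ * (2 * 3) = f * 12 := hfM
    obtain rfl : f₁ = f * 2 := by omega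
    have h6 : 2 * c = (p ^ (f * 2)) ^ (3 ^ 2) * prB (p ^ (f * 2)) 3 := hc
    refine cancel_prime hs4.prime (Z := ((p ^ f) ^ 8 - 1) * ((p ^ f) ^ 12 - 1)) (by positivity) hc0
      (A := (p ^ (f * 2)) ^ (3 ^ 2)) (x := (p ^ f) ^ 4 - 1) (D := 2) (B := (p ^ f) ^ 24) ?_ ?_ hx
      (fun h => ?_) (hs4.not_dvd_pow _) hy
    · rw [h6, prB_three']
    · exact hd.trans (dvd_of_eq (by ring))
    · have := Nat.le_of_dvd (by norm_num) h
      omega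
  · exfalso
    obtain rfl : q = p ^ f₁ := hfl
    have h5 : f₁ * 6 = f * 12 := hfM
    obtain rfl : f₁ = f * 2 := by omega
    have h6 : Nat.gcd 4 (p ^ (f * 2) + 1) * (p ^ (f * 2) + 1) * c =
        (p ^ (f * 2)) ^ (4 * (4 - 1) / 2) * prU (p ^ (f * 2)) 4 := hc
    have hU : prU (p ^ (f * 2)) 4 = ((p ^ (f * 2)) ^ 1 + 1) * (((p ^ (f * 2)) ^ 2 - 1) * (((p ^ (f * 2)) ^ 3 + 1) *
      (((p ^ (f * 2)) ^ 4 - 1) * 1))) := rfl
    have e1 : (p ^ (f * 2)) ^ 2 = (p ^ f) ^ 4 := by rw [pow_mul, ← pow_mul]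
    have e2 : (p ^ (f * 2)) ^ 4 = (p ^ f) ^ 8 := by rw [pow_mul, ← pow_mul]
    have e3 : (p ^ (f * 2)) ^ 3 = (p ^ f) ^ 6 := by rw [pow_mul, ← pow_mul]
    rw [hU, e1, e2, e3, pow_one, mul_one] at h6
    refine cancel_prime hs4.prime (Z := ((p ^ f) ^ 8 - 1) * ((p ^ f) ^ 6 + 1)) (by positivity) hc0
      (A := (p ^ (f * 2)) ^ (4 * (4 - 1) / 2)) (x := (p ^ f) ^ 4 - 1) (D := Nat.gcd 4 (p ^ (f * 2) + 1))
      (B := (p ^ f) ^ 24) (y := ((p ^ f) ^ 2 - 1) * ((p ^ f) ^ 6 - 1) * ((p ^ f) ^ 6 - 1)) ?_ ?_ hx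
      (fun h => ?_) (hs4.not_dvd_pow _) (fun h => ?_)
    · apply Nat.eq_of_mul_eq_mul_left (show 0 < p ^ (f * 2) + 1 by omega)
      calc (p ^ (f * 2) + 1) * (Nat.gcd 4 (p ^ (f * 2) + 1) * c)
          = Nat.gcd 4 (p ^ (f * 2) + 1) * (p ^ (f * 2) + 1) * c := by ring
        _ = _ := h6
        _ = _ := by ring
    · have h7 : (p ^ f) ^ 12 - 1 = ((p ^ f) ^ 6 - 1) * ((p ^ f) ^ 6 + 1) := by
        have := Nat.sq_sub_sq ((p ^ f) ^ 6) 1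
        rw [one_pow, ← pow_mul] at this
        rw [mul_comm]
        exact this
      rw [h7] at hd
      refine hd.trans (dvd_of_eq ?_)
      ring
    · have := Nat.le_of_dvd (by norm_num) (h.trans (Nat.gcd_dvd_left _ _))
      omega
    · rcases hs4.prime.dvd_mul.1 h with h | h
      · exact hy h
      · exact hs4.not_dvd_sub (by norm_num) h
  · exfalso
    obtain rfl : q = p ^ f₁ := hfl
    have h5 : f₁ * (2 * (4 - 1)) = f * 12 := hfM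
    obtain rfl : f₁ = f * 2 := by omega
    have h6 : Nat.gcd 4 ((p ^ (f * 2)) ^ 4 - 1) * c =
        (p ^ (f * 2)) ^ (4 * (4 - 1)) * (((p ^ (f * 2)) ^ 4 - 1) * prB (p ^ (f * 2)) (4 - 1)) := hc
    refine cancel_prime hs4.prime (Z := ((p ^ f) ^ 8 - 1) * ((p ^ f) ^ 12 - 1)) (by positivity) hc0
      (A := (p ^ (f * 2)) ^ (4 * (4 - 1)) * ((p ^ (f * 2)) ^ 4 - 1)) (x := (p ^ f) ^ 4 - 1)
      (D := Nat.gcd 4 ((p ^ (f * 2)) ^ 4 - 1)) (B := (p ^ f) ^ 24) ?_ ?_ hx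
      (fun h => ?_) (hs4.not_dvd_pow _) hy
    · rw [h6, mul_assoc]
      congr 2
      show prB (p ^ (f * 2)) 3 = _
      rw [prB_three']
    · exact hd.trans (dvd_of_eq (by ring))
    · have := Nat.le_of_dvd (by norm_num) (h.trans (Nat.gcd_dvd_left _ _))
      omega
  · left
    obtain rfl : q = p ^ f₁ := hfl
    rw [same_fld (M := 12) (by norm_num) hfM]

end Cfsg.Agent.H73.Rg
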