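import Cfsg.Agent.H563.KG.Core
import Cfsg.Agent.H563.KG.GoodE
import Cfsg.Agent.H73.Rg.HTab

/-!
# The core argument for half classes (helper73)

`coreH` : the simple normal subgroup; `nameH` : its name; `half_gt`, `good_gt`, `good_pr'`, `good_prod` : reducedness.
-/

set_option autoImplicit false
set_option exponentiation.threshold 7000

namespace Cfsg.Agent.H73.Rg

open Cfsg Cfsg.Agent.OrdDiv Cfsg.Agent.H436 Cfsg.Agent.H902 Cfsg.Agent.H902.Names Cfsg.Agent.H915.GN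
  Cfsg.Agent.H290.ElReg Cfsg.Agent.H290.ElTab Cfsg.Agent.H290.ElCross Cfsg.Agent.H264.FKS Cfsg.Agent.H56.Exc
  Cfsg.Agent.H325.Loc Cfsg.Agent.H563.KG

variable {n p f : ℕ} {fam : List ℕ} {M E : ℕ → ℕ}

/-- the family of the `p`-primitive primes of the classes dividing `N` -/
def FmH (p f : ℕ) (fam : List ℕ) (M E : ℕ → ℕ) (N : ℕ) (r m e : ℕ) : Prop :=
  ∃ c ∈ fam, Prim p (f * c) r ∧ r ∣ N ∧ m = M c ∧ e = E c

theorem pr_fmH {N r : ℕ} : Pr (FmH p f fam M E N) r ↔ ∃ c ∈ fam, Prim p (f * c) r ∧ r ∣ N := by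
  constructor
  · rintro ⟨m, e, c, hc, h, hN, -, -⟩
    exact ⟨c, hc, h, hN⟩
  · rintro ⟨c, hc, h, hN⟩
    exact ⟨M c, E c, c, hc, h, hN, rfl, rfl⟩

theorem prim_q (hf : 1 ≤ f) {c r : ℕ} (h : Prim p (f * c) r) : Prim (p ^ f) c r :=
  Cfsg.Agent.H264.GN.prim_pow hf h

/-- the class is not empty -/
theorem exists_of_half (hp : 2 ≤ p) {k : ℕ} (hk : 3 ≤ k) (h6 : ¬ (p = 2 ∧ k = 6)) {N : ℕ}
    (h : PP p k ≤ (Nat.gcd N (PP p k)) ^ 2) : ∃ r, Prim p k r ∧ r ∣ N := by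
  obtain ⟨r, hr, hrd⟩ := Nat.exists_prime_and_dvd (gcd_ne_one hp hk h6 h)
  exact ⟨r, prim_of_dvd_PP hp hk hr (hrd.trans (Nat.gcd_dvd_right _ _)), hrd.trans (Nat.gcd_dvd_left _ _)⟩

theorem HAt.exists_prim {c : ℕ} {K : Type*} [Group K] {B : Subgroup K} (h : HAt p f c B) (hp : 2 ≤ p) (hf : 1 ≤ f)
    (hc : 5 ≤ c) (hc6 : c ≠ 6) : ∃ r, Prim p (f * c) r ∧ r ∣ Nat.card B :=
  exists_of_half hp (by have : 1 * c ≤ f * c := Nat.mul_le_mul_right _ hf
                        omega) (fun h6 => mul6 hf hc hc6 h6.2) h.half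

/-- **The simple normal subgroup.** -/
theorem coreH (hcyc : CycFixSolv.{0}) (hp : p.Prime) (hf : 1 ≤ f) {F : Type} [Field F] [CharP F p]
    {T : Type} [Group T] [Finite T] (hrep : Fth n F T)
    (hbig : ∀ c ∈ fam, ∀ r, Prim (p ^ f) c r → Big T r (M c) (E c))
    {c₀ r₀ : ℕ} (hc₀ : c₀ ∈ fam) (hr₀ : Prim p (f * c₀) r₀) (hpiso : PIso p r₀ T)
    {B : Subgroup T} (hr₀B : r₀ ∣ Nat.card B) (hsep : ∀ c ∈ fam, ¬ Nat.card B ∣ E c * M c)
    (hne : ∀ c ∈ fam, ∃ r, Prim p (f * c) r ∧ r ∣ Nat.card B)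
    (hgood : ∀ t : ℕ, t.Prime → t ≠ p → (∀ c ∈ fam, ¬ Prim p (f * c) t) → t ∣ Nat.card B → Good B n t) :
    ∃ (S : Subgroup B) (_ : S.Normal) (_ : IsSimpleGroup S), ¬ IsMulCommutative S ∧
      (∀ c ∈ fam, S.index ∣ E c * M c) ∧
      (∀ c ∈ fam, ∀ r, Prim p (f * c) r → r ∣ Nat.card B →
        Big S r (M c) (E c) ∧ r ∣ Nat.card S ∧ ¬ r ∣ S.index) := by
  have := Fact.mk hp
  have hrf : RFam ↥B (FmH p f fam M E (Nat.card B)) :=
    { big := by
        rintro r m e ⟨c, hc, h, -, rfl, rfl⟩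
        exact (hbig c hc r (prim_q hf h)).subgroup B
      dvd := by
        rintro r m e ⟨c, hc, h, hN, rfl, rfl⟩
        exact hN
      sep := by
        rintro r m e ⟨c, hc, h, -, rfl, rfl⟩
        exact hsep c hc }
  obtain ⟨τ, hτ⟩ := hrep.sub B.subtype B.subtype_injective
  have hred : Red ↥B (Pr (FmH p f fam M E (Nat.card B))) := by
    refine red_of hcyc hτ (fun A hA hAp => pcore_of_piso (hpiso.sub B) hr₀B A hA hAp)
      (pr_fmH.2 ⟨c₀, hc₀, hr₀, hr₀B⟩) hr₀.prime hr₀B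
      (fun x hx => ((hbig c₀ hc₀ r₀ (prim_q hf hr₀)).subgroup B).cyc x hx) fun t ht htp htn htB => ?_
    rw [Fintype.card_fin]
    exact hgood t ht htp (fun c hc h => htn (pr_fmH.2 ⟨c, hc, h, htB⟩)) htB
  obtain ⟨S, hSn, hSs, hSna, hS⟩ :=
    hrf.exists_full hcyc hred (r₁ := r₀) (m₁ := M c₀) (e₁ := E c₀) ⟨c₀, hc₀, hr₀, hr₀B, rfl, rfl⟩
  refine ⟨S, hSn, hSs, hSna, fun c hc => ?_, fun c hc r h hrB => ?_⟩
  · obtain ⟨r, hr, hrB⟩ := hne c hc
    exact (hS r (M c) (E c) ⟨c, hc, hr, hrB, rfl, rfl⟩).2.2.2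
  · obtain ⟨h1, h2, h3, -⟩ := hS r (M c) (E c) ⟨c, hc, h, hrB, rfl, rfl⟩
    exact ⟨h1, h2, h3⟩

/-- the class part of `B` divides the order of `S` -/
theorem half_S (hp : 2 ≤ p) {k : ℕ} (hk : 3 ≤ k) {B : Type*} [Group B] [Finite B] (S : Subgroup B)
    (h : PP p k ≤ (Nat.gcd (Nat.card B) (PP p k)) ^ 2) (hS : ∀ r, Prim p k r → r ∣ Nat.card B → ¬ r ∣ S.index) :
    PP p k ≤ (Nat.gcd (Nat.card S) (PP p k)) ^ 2 := by
  have h1 : Nat.gcd (Nat.card B) (PP p k) ∣ Nat.card S := by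
    have h2 : Nat.gcd (Nat.card B) (PP p k) ∣ Nat.card S * S.index := by
      rw [S.card_mul_index]; exact Nat.gcd_dvd_left _ _
    refine Nat.Coprime.dvd_of_dvd_mul_right ?_ h2
    by_contra hcon
    obtain ⟨r, hr, h3, h4⟩ := Nat.Prime.not_coprime_iff_dvd.1 hcon
    exact hS r (prim_of_dvd_PP hp hk hr (h3.trans (Nat.gcd_dvd_right _ _))) (h3.trans (Nat.gcd_dvd_left _ _)) h4
  have h2 : Nat.gcd (Nat.card B) (PP p k) ∣ Nat.gcd (Nat.card S) (PP p k) := Nat.dvd_gcd h1 (Nat.gcd_dvd_right _ _)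
  have h3 := Nat.le_of_dvd (Nat.gcd_pos_of_pos_left _ Nat.card_pos) h2
  exact h.trans (Nat.pow_le_pow_left h3 2)

/-! ### the alternating groups -/

/-- the automizers of the elements of order `r` in `A_m` -/
def AltAut : Prop := ∀ {S : Type} [Group S] [Finite S] {m r N e : ℕ}, Big S r N e → (S ≃* alternatingGroup (Fin m)) →
  5 ≤ r → r ∣ Nat.card S → r - 1 ∣ 2 * e

/-- the class part in an alternating group is a prime in the window `[m - 3, m]` with a small automizer -/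
theorem windowH (haut : AltAut) (hp : 2 ≤ p) (hf : 1 ≤ f) {c m N e : ℕ} (hc : 5 ≤ c) (hc6 : c ≠ 6) {S : Type} [Group S] [Finite S]
    (hm : 2 ≤ m) (Φ : S ≃* alternatingGroup (Fin m))
    (hB : ∀ r, Prim p (f * c) r → r ∣ Nat.card S → Big S r N e)
    (h : PP p (f * c) ≤ (Nat.gcd (Nat.card S) (PP p (f * c))) ^ 2) :
    ∃ r, Prim p (f * c) r ∧ r ∣ PP p (f * c) ∧ PP p (f * c) ≤ r ^ 2 ∧ r ≤ m ∧ m ≤ r + 3 ∧ r - 1 ∣ 2 * e ∧ c ∣ r - 1 := by
  have hfc : 1 * c ≤ f * c := Nat.mul_le_mul_right _ hf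
  have hk : 3 ≤ f * c := by omega
  obtain ⟨r, hr, hrS⟩ := exists_of_half hp hk (fun h6 => mul6 hf hc hc6 h6.2) h
  have hmod : ∀ s, Prim p (f * c) s → c ∣ s - 1 := fun s hs => (Dvd.intro_left _ rfl).trans (mod_of_prim' hp hs)
  have h5 : ∀ s, Prim p (f * c) s → 5 ≤ s := fun s hs => by
    have h1 := Nat.le_of_dvd (by have := hs.prime.two_le; omega) (hmod s hs)
    omega
  have key : ∀ s, Prim p (f * c) s → s ∣ Nat.card S → s ≤ m ∧ m ≤ s + 3 := fun s hs h1 => by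
    refine ⟨Cfsg.Agent.H290.ElRich.le_of_dvd_alt hs.prime hm Φ h1,
      Cfsg.Agent.H290.ElRich.alt_le hs.prime (h5 s hs) Φ h1 fun x hx => ?_⟩
    have := (hB s hs h1).cyc x hx
    let _ := IsCyclic.commGroup (α := ↥(Subgroup.centralizer ({x} : Set S)))
    infer_instance
  have hg0 : Nat.gcd (Nat.card S) (PP p (f * c)) ≠ 0 := Nat.gcd_ne_zero_left Nat.card_pos.ne'
  have huniq : ∀ {s : ℕ}, s.Prime → s ∣ Nat.gcd (Nat.card S) (PP p (f * c)) → s = r := by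
    intro s hs hsd
    have hs' := prim_of_dvd_PP hp hk hs (hsd.trans (Nat.gcd_dvd_right _ _))
    have h1 := key s hs' (hsd.trans (Nat.gcd_dvd_left _ _))
    have h2 := key r hr hrS
    have h3 := hmod s hs'
    have h4 := hmod r hr
    have h6 := h5 s hs'
    have h7 := h5 r hr
    by_contra hne
    rcases Nat.lt_or_gt_of_ne hne with h | h
    · have h8 := Nat.le_of_dvd (by omega) (Nat.dvd_sub h4 h3)
      omega
    · have h8 := Nat.le_of_dvd (by omega) (Nat.dvd_sub h3 h4)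
      omega
  have hpow := Nat.eq_prime_pow_of_unique_prime_dvd hg0 huniq
  set k := (Nat.gcd (Nat.card S) (PP p (f * c))).primeFactorsList.length with hkdef
  have h2 := key r hr hrS
  have h8 := h5 r hr
  have hk1 : k ≤ 1 := by
    by_contra hk1
    have h3 : r ^ 2 ∣ Nat.gcd (Nat.card S) (PP p (f * c)) := by rw [hpow]; exact pow_dvd_pow _ (by omega)
    have : Nontrivial (Fin m) := Fin.nontrivial_iff_two_le.2 hm
    have h4 : 2 * Nat.card S = m.factorial := by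
      rw [Nat.card_congr Φ.toEquiv, Nat.card_eq_fintype_card, two_mul_card_alternatingGroup, Fintype.card_perm,
        Fintype.card_fin]
    refine sq_not_dvd_factorial hr.prime (m := m) (by omega) ?_
    rw [← h4]
    exact (h3.trans (Nat.gcd_dvd_left _ _)).mul_left _
  have hle : Nat.gcd (Nat.card S) (PP p (f * c)) ≤ r := by
    rw [hpow]
    calc r ^ k ≤ r ^ 1 := Nat.pow_le_pow_right (by omega) hk1
      _ = r := pow_one r
  exact ⟨r, hr, dvd_PP hp hk hr, h.trans (Nat.pow_le_pow_left hle 2), h2.1, h2.2, haut (hB r hr hrS) Φ h8 hrS, hmod r hr⟩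

/-- the condition for a prime in an alternating group -/
def ca (e E r : ℕ) : Bool := (r - 1) % e == 0 && (2 * E) % (r - 1) == 0

/-- the test for the alternating groups -/
def chkA (D : TD) (E E' : ℕ) : Bool := (smp (2 * E + 1)).all fun r => !(ca D.e E r) || ((smp (2 * E' + 1)).all fun r' =>
  !(ca D.e' E' r') || (Nat.blt (r + 3) r' || (Nat.blt (r' + 3) r || (r == r' || ((List.range (2 * E)).all fun f' =>
    !((r - 1) % ((f' + 1) * D.e) == 0) || (okk ((f' + 1) * D.e) && (Nat.blt (r ^ 2 * (D.e * (f' + 1))) (D.P ^ D.t) &&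
      ((smp D.P).all fun p => Nat.blt (p ^ (f' + 1)) D.q₀ || (!(pc p ((f' + 1) * D.e) % r == 0) ||
        (!(Nat.ble (pc p ((f' + 1) * D.e)) (r ^ 2)) || (okk ((f' + 1) * D.e') && !(pc p ((f' + 1) * D.e') % r' == 0))))))))))))

theorem chkA_false {D : TD} (hD : D.Ok) (hne : D.e ≠ D.e') {E E' r r' m : ℕ} (hp : p.Prime) (hf : 1 ≤ f) (hq : D.q₀ ≤ p ^ f)
    (hE : 1 ≤ E) (hE' : 1 ≤ E') (hE30 : E ≤ 155) (hE30' : E' ≤ 155)
    (hr : Prim p (f * D.e) r) (h1 : PP p (f * D.e) ≤ r ^ 2) (h2 : r ≤ m) (h3 : m ≤ r + 3)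
    (h4 : r - 1 ∣ 2 * E) (hr' : Prim p (f * D.e') r') (h2' : r' ≤ m) (h3' : m ≤ r' + 3)
    (h4' : r' - 1 ∣ 2 * E') (hc : chkA D E E' = true) : False := by
  have hp2 := hp.two_le
  have h5 := hD.e7
  have h5' := hD.e7'
  have hfe : 1 * D.e ≤ f * D.e := Nat.mul_le_mul_right _ hf
  have hfe' : 1 * D.e' ≤ f * D.e' := Nat.mul_le_mul_right _ hf
  have a1 := Nat.le_of_dvd (by omega) h4
  have a1' := Nat.le_of_dvd (by omega) h4'
  have b1 := mod_of_prim' hp2 hr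
  have b1' := mod_of_prim' hp2 hr'
  have b2 : D.e ∣ r - 1 := (Dvd.intro_left _ rfl).trans b1
  have b2' : D.e' ∣ r' - 1 := (Dvd.intro_left _ rfl).trans b1'
  have r2 := hr.prime.two_le
  have r2' := hr'.prime.two_le
  have m1 : r ∈ smp (2 * E + 1) := List.mem_filter.2 ⟨mem_sps hr.prime (by omega), by simp; omega⟩
  have m1' : r' ∈ smp (2 * E' + 1) := List.mem_filter.2 ⟨mem_sps hr'.prime (by omega), by simp; omega⟩
  have c1 : ca D.e E r = true := by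
    unfold ca
    simp only [Bool.and_eq_true, beq_iff_eq]
    exact ⟨Nat.mod_eq_zero_of_dvd b2, Nat.mod_eq_zero_of_dvd h4⟩
  have c1' : ca D.e' E' r' = true := by
    unfold ca
    simp only [Bool.and_eq_true, beq_iff_eq]
    exact ⟨Nat.mod_eq_zero_of_dvd b2', Nat.mod_eq_zero_of_dvd h4'⟩
  have hrr : r ≠ r' := by
    rintro rfl
    have := hr.unique hr'
    exact hne (Nat.eq_of_mul_eq_mul_left (by omega) this)
  have hb := Nat.le_of_dvd (by omega) b1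
  have hff : f - 1 ∈ List.range (2 * E) := List.mem_range.2 (by
    have : f * 5 ≤ f * D.e := Nat.mul_le_mul_left _ h5
    omega)
  have d1 := List.all_eq_true.1 hc r m1
  simp only [c1, Bool.not_true, Bool.false_or] at d1
  have d2 := List.all_eq_true.1 d1 r' m1'
  simp only [c1', Bool.not_true, Bool.false_or, Bool.or_eq_true, Nat.blt_eq, beq_iff_eq] at d2
  rcases d2 with d2 | d2 | d2 | d2
  · omega
  · omega
  · exact hrr d2
  have d3 := List.all_eq_true.1 d2 _ hff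
  rw [show f - 1 + 1 = f by omega] at d3
  have e1 : ((r - 1) % (f * D.e) == 0) = true := by
    rw [beq_iff_eq]; exact Nat.mod_eq_zero_of_dvd b1
  simp only [e1, Bool.not_true, Bool.false_or, Bool.and_eq_true, Nat.blt_eq] at d3
  obtain ⟨ho, hb2, hs⟩ := d3
  have ho1 : nl (fl (f * D.e)) = f * D.e := by simpa [okk] using ho
  have hpP : p ≤ D.P := by
    by_contra hcon
    push Not at hcon
    have h6 := PP_lower (p := p) (f := f) (e := D.e) hp2 (by omega) hf hcon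
    rw [mul_comm D.e f] at h6 hb2
    have h7 : D.P ^ D.t ≤ D.P ^ D.e.totient := Nat.pow_le_pow_right hD.hP hD.ht
    have h8 : PP p (f * D.e) * (f * D.e) ≤ r ^ 2 * (f * D.e) := Nat.mul_le_mul_right _ h1
    omega
  have hpm : p ∈ smp D.P := List.mem_filter.2 ⟨mem_sps hp (hpP.trans hD.hP'), by simpa using hpP⟩
  have d4 := List.all_eq_true.1 hs p hpm
  have e2 : Nat.blt (p ^ f) D.q₀ = false := by
    rw [Bool.eq_false_iff, Ne, Nat.blt_eq]; omega
  have e3 : (pc p (f * D.e) % r == 0) = true := by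
    rw [beq_iff_eq, ← PP_eq ho1 hp2]; exact Nat.mod_eq_zero_of_dvd (dvd_PP hp2 (by omega) hr)
  have e4 : Nat.ble (pc p (f * D.e)) (r ^ 2) = true := by
    rw [Nat.ble_eq, ← PP_eq ho1 hp2]; exact h1
  simp only [e2, e3, e4, Bool.not_true, Bool.false_or, Bool.and_eq_true, Bool.not_eq_true', beq_eq_false_iff_ne] at d4
  obtain ⟨ho', d5⟩ := d4
  have ho2 : nl (fl (f * D.e')) = f * D.e' := by simpa [okk] using ho'
  rw [← PP_eq ho2 hp2] at d5
  exact d5 (Nat.mod_eq_zero_of_dvd (dvd_PP hp2 (by omega) hr'))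

/-! ### the name -/

/-- the tables -/
structure TblH (n : ℕ) (D : TD) (exc : List (Art.Sh × ℕ × ℕ)) (E E' : ℕ) : Prop where
  hn : n ≤ 248
  ok : D.Ok
  ne : D.e ≠ D.e'
  hR : chkR n D exc = true
  hS : chkS D = true
  hE : 1 ≤ E
  hE' : 1 ≤ E'
  hE30 : E ≤ 155
  hE30' : E' ≤ 155
  hA : chkA D E E' = true

variable {D : TD} {exc : List (Art.Sh × ℕ × ℕ)} {EE EE' N N' : ℕ}

/-- **The name.** -/
theorem nameH (tb : OrderTable.{0}) (haut : AltAut) (ht : TblH n D exc EE EE') (hp : p.Prime) (hf : 1 ≤ f)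
    (hq : D.q₀ ≤ p ^ f) {F : Type} [Field F] [CharP F p] {S : Type} [Group S] [Finite S] [IsSimpleGroup S]
    (hna : ¬ IsMulCommutative S) (hK : IsKnownSimple' S) (hrep : Fth n F S) (hd : Nat.card S ∣ OL D.Y (p ^ f))
    (h1 : PP p (f * D.e) ≤ (Nat.gcd (Nat.card S) (PP p (f * D.e))) ^ 2)
    (h2 : PP p (f * D.e') ≤ (Nat.gcd (Nat.card S) (PP p (f * D.e'))) ^ 2)
    (hex : ∀ c ∈ D.exs, ∃ s, Prim p (f * c) s ∧ s ∣ Nat.card S)
    (hB : ∀ r, Prim p (f * D.e) r → r ∣ Nat.card S → Big S r N EE)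
    (hB' : ∀ r, Prim p (f * D.e') r → r ∣ Nat.card S → Big S r N' EE')
    (hexc : ∀ g l X a, l.Prime → IsNamed g S → IsLie g X l a → (X, (l, a)) ∈ exc → False) :
    ∃ g, IsNamed g S ∧ HasChar p g := by
  have hna' : ¬ ∀ a b : S, a * b = b * a := fun h => hna ⟨⟨h⟩⟩
  obtain ⟨g, hgS⟩ := exists_named tb hK hna'
  have hF : Fac1 D (Nat.card S) p f := ⟨hp, hf, hq, h1, h2, hex⟩
  have h5 := ht.ok.e7
  have h5' := ht.ok.e7'
  rcases Cfsg.Agent.H192.Singer.cases_name hgS.cond with ⟨m, rfl⟩ | hsp | ⟨l, hl, hch⟩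
  · exfalso
    obtain ⟨Φ⟩ : Nonempty (S ≃* alternatingGroup (Fin m)) := hgS.real
    have hm : 5 ≤ m := hgS.cond
    obtain ⟨r, a1, -, a3, a4, a5, a6, -⟩ := windowH haut hp.two_le hf h5 ht.ok.ne6 (by omega) Φ hB h1
    obtain ⟨r', b1, -, b3, b4, b5, b6, -⟩ := windowH haut hp.two_le hf h5' ht.ok.ne6' (by omega) Φ hB' h2
    exact chkA_false ht.ok ht.ne hp hf hq ht.hE ht.hE' ht.hE30 ht.hE30' a1 a3 a4 a5 a6 b1 b4 b5 b6 ht.hA
  · exfalso
    have h1 := Cfsg.Agent.H192.Singer.spor_mem hsp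
    have h2 : Nat.card S = ordN g := hgS.ord
    exact no_sporH ht.ok ht.hS h1 (by rw [← h2]; exact hF) (by rw [← h2]; exact hd)
  · by_cases hpl : p = l
    · subst hpl
      exact ⟨g, hgS, hch⟩
    · exfalso
      obtain ⟨X, f₁, h1, h2, -⟩ := exists_lie hl hgS hch
      have hlF : (l : F) ≠ 0 := by
        intro h
        exact hpl ((Nat.prime_dvd_prime_iff_eq hp hl).1 ((CharP.cast_eq_zero_iff F p l).1 h))
      have h3 := lb_le hna' ht.hn hrep h1 hgS.real h2 hlF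
      exact hexc g l X f₁ hl hgS h1 (no_crossH ht.hn ht.ok ht.hR h2 h3 hpl hF hd)

/-! ### reducedness -/

/-- the test for the size of the class part -/
def gchk (n c P t q₀ : ℕ) (ex : List (ℕ × ℕ × ℕ)) : Bool := (List.range (n / c)).all fun f' =>
  okk ((f' + 1) * c) && (Nat.blt (n ^ 2 * (c * (f' + 1))) (P ^ t) && ((smp P).all fun p =>
    Nat.blt (p ^ (f' + 1)) q₀ || ((List.range (n + 1)).all fun d =>
      !(pc p ((f' + 1) * c) % d == 0) || (Nat.blt (d ^ 2) (pc p ((f' + 1) * c)) || decide ((p, f' + 1, d) ∈ ex)))))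

theorem half_gt {c P t q₀ : ℕ} {ex : List (ℕ × ℕ × ℕ)} (hp : p.Prime) (hf : 1 ≤ f) (hq : q₀ ≤ p ^ f) (hc : 5 ≤ c) (hc6 : c ≠ 6)
    (ht : t ≤ c.totient) (hP : 1 ≤ P) (hP' : P ≤ 311) (hk : gchk n c P t q₀ ex = true) {N : ℕ}
    (h : PP p (f * c) ≤ (Nat.gcd N (PP p (f * c))) ^ 2) :
    n < Nat.gcd N (PP p (f * c)) ∨ (p, f, Nat.gcd N (PP p (f * c))) ∈ ex := by
  by_contra hcon
  rw [not_or] at hcon
  obtain ⟨hlt, hex⟩ := hcon
  push Not at hlt
  have hp2 := hp.two_le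
  have hfc : 1 * c ≤ f * c := Nat.mul_le_mul_right _ hf
  have h3 : 3 ≤ f * c := by omega
  have hg1 := gcd_ne_one hp2 h3 (fun h6 => mul6 hf hc hc6 h6.2) h
  have hg0 : 0 < Nat.gcd N (PP p (f * c)) := Nat.gcd_pos_of_pos_right _ (PP_pos hp2 (by omega))
  obtain ⟨r, hr, hrd⟩ := Nat.exists_prime_and_dvd hg1
  have hr' := prim_of_dvd_PP hp2 h3 hr (hrd.trans (Nat.gcd_dvd_right _ _))
  have h4 := Nat.le_of_dvd (by have := hr.two_le; omega) (mod_of_prim' hp2 hr')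
  have h5 := Nat.le_of_dvd hg0 hrd
  have hfm : f - 1 ∈ List.range (n / c) := by
    have h7 : f ≤ n / c := by
      rw [Nat.le_div_iff_mul_le (by omega)]
      omega
    exact List.mem_range.2 (by omega)
  have d1 := List.all_eq_true.1 hk _ hfm
  rw [show f - 1 + 1 = f by omega] at d1
  simp only [Bool.and_eq_true, Nat.blt_eq] at d1
  obtain ⟨ho, hb, hs⟩ := d1
  have ho1 : nl (fl (f * c)) = f * c := by simpa [okk] using ho
  have hsq : (Nat.gcd N (PP p (f * c))) ^ 2 ≤ n ^ 2 := Nat.pow_le_pow_left hlt 2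
  have hpP : p ≤ P := by
    by_contra hcon
    push Not at hcon
    have h6 := PP_lower (p := p) (f := f) (e := c) hp2 (by omega) hf hcon
    rw [mul_comm c f] at h6 hb
    have h7 : P ^ t ≤ P ^ c.totient := Nat.pow_le_pow_right hP ht
    have h8 : PP p (f * c) * (f * c) ≤ n ^ 2 * (f * c) := Nat.mul_le_mul_right _ (h.trans hsq)
    omega
  have hpm : p ∈ smp P := List.mem_filter.2 ⟨mem_sps hp (hpP.trans hP'), by simpa using hpP⟩
  have d4 := List.all_eq_true.1 hs p hpm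
  have e2 : Nat.blt (p ^ f) q₀ = false := by
    rw [Bool.eq_false_iff, Ne, Nat.blt_eq]; omega
  simp only [e2, Bool.false_or] at d4
  have d5 := List.all_eq_true.1 d4 (Nat.gcd N (PP p (f * c))) (List.mem_range.2 (by omega))
  rw [← PP_eq ho1 hp2] at d5
  simp only [Bool.or_eq_true, Bool.not_eq_true', beq_eq_false_iff_ne, Nat.blt_eq, decide_eq_true_eq] at d5
  rcases d5 with d5 | d5 | d5
  · exact d5 (Nat.mod_eq_zero_of_dvd (Nat.gcd_dvd_right _ _))
  · omega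
  · exact hex d5

/-- no element of a prime order dividing the class part commutes with an element of order `t` -/
theorem free_gcd {G : Type*} [Group G] [Finite G] {c K t : ℕ} (h : Ord G (p ^ f) c K) (hp : 2 ≤ p) (hf : 1 ≤ f)
    (hc : 5 ≤ c) (ht : t.Prime) (hK : ¬ t ∣ K) : Free G t (Nat.gcd (Nat.card G) (PP p (f * c))) := by
  intro x hx hxm a ha hcx
  have hfc : 1 * c ≤ f * c := Nat.mul_le_mul_right _ hf
  have h0 := prim_of_dvd_PP hp (by omega) hx (hxm.trans (Nat.gcd_dvd_right _ _))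
  have h1 := h _ (prim_q hf h0) x rfl
  have h2 : a ∈ Subgroup.centralizer ({x} : Set G) := Subgroup.mem_centralizer_singleton_iff.2 hcx.symm
  have h3 : orderOf a ∣ K := by
    have h4 : orderOf (⟨a, h2⟩ : ↥(Subgroup.centralizer ({x} : Set G))) = orderOf a := by
      rw [← Subgroup.orderOf_coe]
    rw [← h4]
    exact (orderOf_dvd_natCard _).trans h1
  have h4 : orderOf a ∣ t := orderOf_dvd_of_pow_eq_one ha
  rcases (Nat.dvd_prime ht).1 h4 with h5 | h5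
  · rwa [orderOf_eq_one_iff] at h5
  · rw [h5] at h3
    exact absurd h3 hK

/-- the case of a large class part -/
theorem good_gt {G : Type*} [Group G] [Finite G] {c K t : ℕ} (h : Ord G (p ^ f) c K) (hp : 2 ≤ p) (hf : 1 ≤ f)
    (hc : 5 ≤ c) (ht : t.Prime) (hK : ¬ t ∣ K) (hn : n < Nat.gcd (Nat.card G) (PP p (f * c))) : Good G n t :=
  ⟨_, Nat.gcd_dvd_left _ _, free_gcd h hp hf hc ht hK, Or.inl hn⟩

/-- the case of a prime class part -/
theorem good_prH {G : Type*} [Group G] [Finite G] {c K t d : ℕ} (h : Ord G (p ^ f) c K) (hp : 2 ≤ p) (hf : 1 ≤ f)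
    (hc : 5 ≤ c) (ht : t.Prime) (hK : ¬ t ∣ K) (hd : Nat.gcd (Nat.card G) (PP p (f * c)) = d) (hdp : d.Prime)
    (hk : ∀ k, 0 < k → t ^ k ∣ Nat.card G → ¬ d ∣ t ^ k - 1) : Good G n t :=
  ⟨d, hd ▸ Nat.gcd_dvd_left _ _, hd ▸ free_gcd h hp hf hc ht hK, Or.inr ⟨hdp, hk⟩⟩

theorem pp_coprime {c c' : ℕ} (hp : 2 ≤ p) (hf : 1 ≤ f) (hc : 5 ≤ c) (hc' : 5 ≤ c') (hne : c ≠ c') :
    Nat.Coprime (PP p (f * c)) (PP p (f * c')) := by
  have hfc : 1 * c ≤ f * c := Nat.mul_le_mul_right _ hf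
  have hfc' : 1 * c' ≤ f * c' := Nat.mul_le_mul_right _ hf
  by_contra hcon
  obtain ⟨r, hr, h1, h2⟩ := Nat.Prime.not_coprime_iff_dvd.1 hcon
  have h3 := (prim_of_dvd_PP hp (by omega) hr h1).unique (prim_of_dvd_PP hp (by omega) hr h2)
  exact hne (Nat.eq_of_mul_eq_mul_left (by omega) h3)

/-- the case of two classes: the product of the class parts is at least `(c + 1) (c' + 1)` -/
theorem good_prod {G : Type*} [Group G] [Finite G] {c K c' K' t : ℕ} (h : Ord G (p ^ f) c K) (h' : Ord G (p ^ f) c' K')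
    (hp : 2 ≤ p) (hf : 1 ≤ f) (hc : 5 ≤ c) (hc' : 5 ≤ c') (hne : c ≠ c') (ht : t.Prime) (hK : ¬ t ∣ K) (hK' : ¬ t ∣ K')
    (hn : n < Nat.gcd (Nat.card G) (PP p (f * c)) * Nat.gcd (Nat.card G) (PP p (f * c'))) : Good G n t :=
  ⟨_, (((pp_coprime hp hf hc hc' hne).coprime_dvd_left (Nat.gcd_dvd_right _ _)).coprime_dvd_right
    (Nat.gcd_dvd_right _ _)).mul_dvd_of_dvd_of_dvd (Nat.gcd_dvd_left _ _) (Nat.gcd_dvd_left _ _),
    (free_gcd h hp hf hc ht hK).mul (free_gcd h' hp hf hc' ht hK'), Or.inl hn⟩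

/-- a class part is larger than `2 c` (it is a number `≡ 1` modulo `c` composed of odd primes) -/
theorem gcd_lb {c N : ℕ} (hp : 2 ≤ p) (hf : 1 ≤ f) (hc : 5 ≤ c) (hc6 : c ≠ 6)
    (h : PP p (f * c) ≤ (Nat.gcd N (PP p (f * c))) ^ 2) :
    c + 1 ≤ Nat.gcd N (PP p (f * c)) ∧ (c % 2 = 1 → 2 * c + 1 ≤ Nat.gcd N (PP p (f * c))) := by
  have hfc : 1 * c ≤ f * c := Nat.mul_le_mul_right _ hf
  have h3 : 3 ≤ f * c := by omega
  have hg1 := gcd_ne_one hp h3 (fun h6 => mul6 hf hc hc6 h6.2) h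
  have hg0 : 0 < Nat.gcd N (PP p (f * c)) := Nat.gcd_pos_of_pos_right _ (PP_pos hp (by omega))
  obtain ⟨r, hr, hrd⟩ := Nat.exists_prime_and_dvd hg1
  have hr' := prim_of_dvd_PP hp h3 hr (hrd.trans (Nat.gcd_dvd_right _ _))
  have h4 : c ∣ r - 1 := (Dvd.intro_left _ rfl).trans (mod_of_prim' hp hr')
  have h5 := Nat.le_of_dvd hg0 hrd
  have h6 := Nat.le_of_dvd (by have := hr.two_le; omega) h4
  have h7 := hr'.odd (by omega)
  refine ⟨by omega, fun hodd => ?_⟩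
  obtain ⟨k, hk⟩ := h4
  have hk2 : k % 2 = 0 := by
    by_contra hcon
    have : (c * k) % 2 = 1 := by rw [Nat.mul_mod, hodd, show k % 2 = 1 by omega]
    omega
  have hk0 : k ≠ 0 := by
    rintro rfl
    have := hr.two_le
    omega
  have : c * 2 ≤ c * k := Nat.mul_le_mul_left _ (by omega)
  omega

end Cfsg.Agent.H73.Rg
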