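import Cfsg.Agent.H73.Rg.HMain

/-!
# The tables of `E₆(q)` and `²E₆(q)`, `q ≥ 3` (helper73)
-/

set_option autoImplicit false
set_option exponentiation.threshold 7000

namespace Cfsg.Agent.H73.Rg

open Cfsg.Agent.H902 Cfsg.Agent.H290.ElTab Cfsg.Agent.H563.KG

/-- the data for the classes 9, 8 -/
def D6a : TD := ⟨.E6, 9, 8, 23, 6, 4, [], 3⟩

/-- the data for the classes 9, 12 -/
def D6b : TD := ⟨.E6, 9, 12, 23, 6, 4, [], 3⟩

/-- the data for the classes 8, 12 -/
def D6c : TD := ⟨.E6, 8, 12, 101, 4, 4, [], 3⟩

/-- the data for the classes 18, 8 -/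
def Dt6a : TD := ⟨.TE6, 18, 8, 23, 6, 4, [], 3⟩

/-- the data for the classes 18, 12 -/
def Dt6b : TD := ⟨.TE6, 18, 12, 23, 6, 4, [], 3⟩

/-- the data for the classes 8, 12 -/
def Dt6c : TD := ⟨.TE6, 8, 12, 101, 4, 4, [], 3⟩

theorem tblH_6a : TblH 78 D6a [] 9 8 where
  hn := by norm_num
  ok := ⟨by decide, by decide, by decide, by decide, by decide +kernel, by decide +kernel, by decide, by decide⟩
  ne := by decide
  hR := by decide +kernel
  hS := by decide +kernel
  hE := by norm_num
  hE' := by norm_num
  hE30 := by norm_num
  hE30' := by norm_num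
  hA := by decide +kernel

theorem tblH_6b : TblH 78 D6b [] 9 12 where
  hn := by norm_num
  ok := ⟨by decide, by decide, by decide, by decide, by decide +kernel, by decide +kernel, by decide, by decide⟩
  ne := by decide
  hR := by decide +kernel
  hS := by decide +kernel
  hE := by norm_num
  hE' := by norm_num
  hE30 := by norm_num
  hE30' := by norm_num
  hA := by decide +kernel

theorem tblH_6c : TblH 78 D6c [] 8 12 where
  hn := by norm_num
  ok := ⟨by decide, by decide, by decide, by decide, by decide +kernel, by decide +kernel, by decide, by decide⟩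
  ne := by decide
  hR := by decide +kernel
  hS := by decide +kernel
  hE := by norm_num
  hE' := by norm_num
  hE30 := by norm_num
  hE30' := by norm_num
  hA := by decide +kernel

theorem tblH_t6a : TblH 78 Dt6a [] 9 8 where
  hn := by norm_num
  ok := ⟨by decide, by decide, by decide, by decide, by decide +kernel, by decide +kernel, by decide, by decide⟩
  ne := by decide
  hR := by decide +kernel
  hS := by decide +kernel
  hE := by norm_num
  hE' := by norm_num
  hE30 := by norm_num
  hE30' := by norm_num
  hA := by decide +kernel

theorem tblH_t6b : TblH 78 Dt6b [(.L 2, 73, 1)] 9 12 where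
  hn := by norm_num
  ok := ⟨by decide, by decide, by decide, by decide, by decide +kernel, by decide +kernel, by decide, by decide⟩
  ne := by decide
  hR := by decide +kernel
  hS := by decide +kernel
  hE := by norm_num
  hE' := by norm_num
  hE30 := by norm_num
  hE30' := by norm_num
  hA := by decide +kernel

theorem tblH_t6c : TblH 78 Dt6c [] 8 12 where
  hn := by norm_num
  ok := ⟨by decide, by decide, by decide, by decide, by decide +kernel, by decide +kernel, by decide, by decide⟩
  ne := by decide
  hR := by decide +kernel
  hS := by decide +kernel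
  hE := by norm_num
  hE' := by norm_num
  hE30 := by norm_num
  hE30' := by norm_num
  hA := by decide +kernel

end Cfsg.Agent.H73.Rg
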