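import Cfsg.Agent.H73.Rg.HMain

/-!
# The tables of `E₇(q)` (helper73)
-/

set_option autoImplicit false
set_option exponentiation.threshold 7000

namespace Cfsg.Agent.H73.Rg

open Cfsg.Agent.H902 Cfsg.Agent.H290.ElTab Cfsg.Agent.H563.KG

/-- the data for the classes 9, 14 -/
def D7a : TD := ⟨.E7, 9, 14, 23, 6, 6, [], 2⟩

/-- the data for the classes 18, 7 -/
def D7b : TD := ⟨.E7, 18, 7, 23, 6, 6, [], 2⟩

/-- the data for the classes 9, 18 -/
def D7c : TD := ⟨.E7, 9, 18, 23, 6, 6, [], 2⟩

/-- the data for the classes 7, 14 -/
def D7d : TD := ⟨.E7, 7, 14, 127, 6, 6, [], 2⟩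

/-- the data for the classes 18, 14 -/
def D7e : TD := ⟨.E7, 18, 14, 23, 6, 6, [], 2⟩

theorem tblH_7a : TblH 133 D7a [(.L 2, 113, 1)] 18 14 where
  hn := by norm_num
  ok := ⟨by decide, by decide, by decide, by decide, by decide +kernel, by decide +kernel, by decide, by decide⟩
  ne := by decide
  hR := by decide +kernel
  hS := by decide +kernel
  hE := by norm_num
  hE' := by norm_num
  hE30 := by norm_num
  hE30' := by norm_num
  hA := by decide +kernel

theorem tblH_7b : TblH 133 D7b [] 18 14 where
  hn := by norm_num
  ok := ⟨by decide, by decide, by decide, by decide, by decide +kernel, by decide +kernel, by decide, by decide⟩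
  ne := by decide
  hR := by decide +kernel
  hS := by decide +kernel
  hE := by norm_num
  hE' := by norm_num
  hE30 := by norm_num
  hE30' := by norm_num
  hA := by decide +kernel

theorem tblH_7c : TblH 133 D7c [] 18 18 where
  hn := by norm_num
  ok := ⟨by decide, by decide, by decide, by decide, by decide +kernel, by decide +kernel, by decide, by decide⟩
  ne := by decide
  hR := by decide +kernel
  hS := by decide +kernel
  hE := by norm_num
  hE' := by norm_num
  hE30 := by norm_num
  hE30' := by norm_num
  hA := by decide +kernel

theorem tblH_7d : TblH 133 D7d [] 14 14 where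
  hn := by norm_num
  ok := ⟨by decide, by decide, by decide, by decide, by decide +kernel, by decide +kernel, by decide, by decide⟩
  ne := by decide
  hR := by decide +kernel
  hS := by decide +kernel
  hE := by norm_num
  hE' := by norm_num
  hE30 := by norm_num
  hE30' := by norm_num
  hA := by decide +kernel

theorem tblH_7e : TblH 133 D7e [] 18 14 where
  hn := by norm_num
  ok := ⟨by decide, by decide, by decide, by decide, by decide +kernel, by decide +kernel, by decide, by decide⟩
  ne := by decide
  hR := by decide +kernel
  hS := by decide +kernel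
  hE := by norm_num
  hE' := by norm_num
  hE30 := by norm_num
  hE30' := by norm_num
  hA := by decide +kernel

end Cfsg.Agent.H73.Rg
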