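import Cfsg.Agent.H73.Rg.HMain

/-!
# The tables of `E₈(q)` (helper73)
-/

set_option autoImplicit false
set_option exponentiation.threshold 7000

namespace Cfsg.Agent.H73.Rg

open Cfsg.Agent.H902 Cfsg.Agent.H290.ElTab Cfsg.Agent.H563.KG

/-- the data for the classes 24, 30 -/
def D8a : TD := ⟨.E8, 24, 30, 7, 8, 8, [], 2⟩

/-- the data for the classes 20, 30 -/
def D8b : TD := ⟨.E8, 20, 30, 11, 8, 8, [], 2⟩

/-- the data for the classes 20, 24 -/
def D8c : TD := ⟨.E8, 20, 24, 11, 8, 8, [], 2⟩

theorem tblH_8a : TblH 248 D8a [] 24 30 where
  hn := le_rfl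
  ok := ⟨by decide, by decide, by decide, by decide, by decide +kernel, by decide +kernel, by decide, by decide⟩
  ne := by decide
  hR := by decide +kernel
  hS := by decide +kernel
  hE := by norm_num
  hE' := by norm_num
  hE30 := by norm_num
  hE30' := by norm_num
  hA := by decide +kernel

theorem tblH_8b : TblH 248 D8b [] 20 30 where
  hn := le_rfl
  ok := ⟨by decide, by decide, by decide, by decide, by decide +kernel, by decide +kernel, by decide, by decide⟩
  ne := by decide
  hR := by decide +kernel
  hS := by decide +kernel
  hE := by norm_num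
  hE' := by norm_num
  hE30 := by norm_num
  hE30' := by norm_num
  hA := by decide +kernel

theorem tblH_8c : TblH 248 D8c [] 20 24 where
  hn := le_rfl
  ok := ⟨by decide, by decide, by decide, by decide, by decide +kernel, by decide +kernel, by decide, by decide⟩
  ne := by decide
  hR := by decide +kernel
  hS := by decide +kernel
  hE := by norm_num
  hE' := by norm_num
  hE30 := by norm_num
  hE30' := by norm_num
  hA := by decide +kernel

end Cfsg.Agent.H73.Rg
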