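import Cfsg.Agent.H73.Rg.HMain

/-!
# The table of `F₄(q)`, `q ≥ 5` (helper73)
-/

set_option autoImplicit false
set_option exponentiation.threshold 7000

namespace Cfsg.Agent.H73.Rg

open Cfsg.Agent.H902 Cfsg.Agent.H290.ElTab Cfsg.Agent.H563.KG

/-- the data for the classes 8, 12 -/
def D4a : TD := ⟨.F4, 8, 12, 101, 4, 4, [], 5⟩

theorem tblH_4a : TblH 52 D4a [] 8 12 where
  hn := by norm_num
  ok := ⟨by decide, by decide, by decide, by decide, by decide +kernel, by decide +kernel, by decide, by decide⟩
  ne := by decide
  hR := by decide +kernel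
  hS := by decide +kernel
  hE := by norm_num
  hE' := by norm_num
  hE30 := by norm_num
  hE30' := by norm_num
  hA := by decide +kernel

theorem gchk_f12 : gchk 52 12 23 4 5 [] = true := by decide +kernel
theorem gchk_f8 : gchk 52 8 23 4 5 [] = true := by decide +kernel

end Cfsg.Agent.H73.Rg
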