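import Cfsg.Agent.H73.Rg.HTblF
import Cfsg.Agent.H73.Rg.F4One
import Cfsg.Agent.H73.Rg.HAlt
import Cfsg.Agent.H563.KG.KF4

/-!
# Subgroups of `F₄(q)`, `q ≥ 5`, containing at least half of the classes 8 and 12 (helper73)

`k812` : they are the whole group.
-/

set_option autoImplicit false
set_option exponentiation.threshold 7000

namespace Cfsg.Agent.H73.Rg

open Cfsg Cfsg.Agent.OrdDiv Cfsg.Agent.H436 Cfsg.Agent.H902 Cfsg.Agent.H290.ElReg Cfsg.Agent.H290.ElTab
  Cfsg.Agent.H56.Exc Cfsg.Agent.H325.Loc Cfsg.Agent.H915.GN Cfsg.Agent.H264.FKS Cfsg.Agent.H325.Same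
  Cfsg.Agent.H325.IsoExc Cfsg.Agent.H563.KG

section

variable {F : Type} [Field F] [Fintype F] {p f : ℕ}

/-- the classes 8, 12 -/
theorem big4 {q : ℕ} (hq : Fintype.card F = q) (hq1 : 1 ≤ q) {c : ℕ} (hc : c = 12 ∨ c = 8) {r : ℕ}
    (hr : Prim q c r) : Big ↥(Lie.chevF4.group F) r (Ph c q) c := by
  rcases hc with rfl | rfl
  · refine big_F4_12 hq ?_ hr
    rw [cast_Ph12 _ hq1]; ring
  · refine big_F4_8 hq ?_ hr
    rw [cast_Ph8]; ring

/-- **reducedness** -/
theorem good4 {G : Type*} [Group G] [Finite G] (hp : p.Prime) (hf : 1 ≤ f) (hq5 : 5 ≤ p ^ f)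
    (h12 : Ord G (p ^ f) 12 (Ph 12 (p ^ f))) (h8 : Ord G (p ^ f) 8 (Ph 8 (p ^ f)))
    (g12 : PP p (f * 12) ≤ (Nat.gcd (Nat.card G) (PP p (f * 12))) ^ 2)
    (g8 : PP p (f * 8) ≤ (Nat.gcd (Nat.card G) (PP p (f * 8))) ^ 2) {t : ℕ} (ht : t.Prime) : Good G 52 t := by
  have hq1 : 1 ≤ p ^ f := by omega
  by_cases h1 : t ∣ Ph 12 (p ^ f)
  · have h2 : ¬ t ∣ Ph 8 (p ^ f) := by
      intro h2
      have h3 : Prim (p ^ f) 12 t := by
        rw [← ncl12_eq] at h1
        exact prim_of_dvd c12 hq1 ht h1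
      have h4 := h2.trans (Ph_dvd c8 hq1)
      rw [h3.dvd_iff] at h4
      omega
    rcases half_gt hp hf hq5 (by norm_num) (by norm_num) (by decide +kernel) (by norm_num) (by norm_num) gchk_f8 g8 with h3 | h3
    · exact good_gt h8 hp.two_le hf (by norm_num) ht h2 h3
    · simp at h3
  · rcases half_gt hp hf hq5 (by norm_num) (by norm_num) (by decide +kernel) (by norm_num) (by norm_num) gchk_f12 g12 with h3 | h3
    · exact good_gt h12 hp.two_le hf (by norm_num) ht h1 h3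
    · simp at h3

/-- **`F₄(q)`, `q ≥ 5`, the classes 8, 12.** -/
theorem k812' (tb : OrderTable.{0}) (hcyc : CycFixSolv.{0}) (hcf : CF) [CharP F p] (hp : p.Prime) (hf : 1 ≤ f)
    (hq : Fintype.card F = p ^ f) (hq5 : 5 ≤ p ^ f) (B : Subgroup ↥(Lie.chevF4.group F)) (hoff : HOff p f [8, 12] B) :
    B = ⊤ := by
  have := Fact.mk hp
  have hfin : Finite ↥(Lie.chevF4.group F) := inferInstance
  have hT := named_f4 (F := F) tb
  rw [hq] at hT
  have hq2 : 2 ≤ p ^ f := by omega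
  have hq1 : 1 ≤ p ^ f := by omega
  have hOL : num (.f4 (p ^ f)) = OL .F4 (p ^ f) := rfl
  have hdT : Nat.card ↥(Lie.chevF4.group F) ∣ OL .F4 (p ^ f) := by
    rw [← hOL, ← hT.eq]
    exact Dvd.intro_left _ rfl
  have hmem : ∀ c ∈ [8, 12], c = 12 ∨ c = 8 := by decide
  have hcl : ∀ c ∈ [8, 12], Cls c := by
    intro c hc
    have := hmem c hc
    unfold Cls
    omega
  have hbig : ∀ c ∈ [8, 12], ∀ r, Prim (p ^ f) c r → Big ↥(Lie.chevF4.group F) r (Ph c (p ^ f)) c :=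
    fun c hc r hr => big4 hq hq1 (hmem c hc) hr
  have hord : ∀ c ∈ [8, 12], Ord ↥(Lie.chevF4.group F) (p ^ f) c (Ph c (p ^ f)) :=
    fun c hc r hr x hx => (hbig c hc r hr).card x hx
  have h8 := hoff 8 (by decide)
  have h12 := hoff 12 (by decide)
  obtain ⟨S, hS, g, hg, hch⟩ := mainH (D := D4a) (exc := []) tb hcyc hcf altAut (M := fun c => Ph c (p ^ f)) (E := fun c => c)
    tblH_4a hp hf hq5 (F := F) fth_F4 hdT hbig h8 h12
    (sepH hp hf (M := fun c => Ph c (p ^ f)) (E := fun c => c) (by decide) (by decide) h8 h12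
      (fun c hc => Ph_dvd (hcl c hc) hq1)
      (fun c hc s hs hd => le_seven' hs (n := c) (by have := hmem c hc; omega) hd) (by decide) (by decide))
    (by intro c hc; exact absurd hc (by simp [D4a])) (c₀ := 12) (by decide) (fun r hr => piso_F4 (F := F) (Or.inr rfl) (by rw [hq]; exact hr))
    (fun t ht _ _ _ _ => good4 hp hf hq5 ((hord 12 (by decide)).sub B) ((hord 8 (by decide)).sub B) h12.half h8.half ht)
    (by simp)
  have := hS.nor
  have hdS : Nat.card S ∣ num (.f4 (p ^ f)) := IsNamed.card_dvd hT S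
  rcases charp_f4_812 hp hf hg.cond hch hg.eq hdS (hS.h1 8 (by decide)) (hS.h1 12 (by decide)) with rfl | rfl
  · exact eq_top_of_name hT hg
  · exfalso
    obtain ⟨s, hs⟩ := exists_prim (q := p ^ f) (e := 8) hq2 (by norm_num) (by omega)
    exact kill_psl3 hp hg hs (((piso_F4 (F := F) (p := p) (Or.inl rfl) (by rw [hq]; exact hs)).sub B).sub S)

/-- **`F₄(q)`, `q ≥ 5`, the classes 8, 12.** -/
theorem k812 (tb : OrderTable.{0}) (hcyc : CycFixSolv.{0}) (hcf : CF) (hp : p.Prime) (hf : 1 ≤ f)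
    (hq : Fintype.card F = p ^ f) (hq5 : 5 ≤ p ^ f) (B : Subgroup ↥(Lie.chevF4.group F)) (hoff : HOff p f [8, 12] B) :
    B = ⊤ := by
  have := charP_of_card hp hq
  exact k812' tb hcyc hcf hp hf hq hq5 B hoff

end

end Cfsg.Agent.H73.Rg
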