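import Cfsg.Agent.H73.Rg.HTbl8
import Cfsg.Agent.H73.Rg.HAlt
import Cfsg.Agent.H290.Cov.KE8
import Cfsg.Agent.H72.Same.Two

/-!
# Subgroups of `E₈(q)` containing at least half of two of the classes 20, 24, 30 (helper73)

`KH8a` (24, 30), `KH8b` (20, 30), `KH8c` (20, 24) : they are the whole group.
-/

set_option autoImplicit false
set_option exponentiation.threshold 7000

namespace Cfsg.Agent.H73.Rg

open Cfsg Cfsg.Agent.OrdDiv Cfsg.Agent.H436 Cfsg.Agent.H902 Cfsg.Agent.H290.ElReg Cfsg.Agent.H290.ElTab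
  Cfsg.Agent.H56.Exc Cfsg.Agent.H325.Loc Cfsg.Agent.H915.GN Cfsg.Agent.H264.FKS Cfsg.Agent.H325.IsoExc
open Cfsg.Agent.H563.KG hiding Ph cc ncl Cls cast_Ph20 cast_Ph24 Ph_pos not_sq_dvd cc_prime ncl_mul ncl_dvd_Ph ncl_pos
  not_dvd_ncl Ph_le prim_of_dvd Ph_dvd good_one
open Cfsg.Agent.H290.Cov30
open Cfsg.Agent.H325.Same (sub_pos' cancel_prime pos_of_dvd)

section

variable {F : Type} [Field F] [Fintype F] {p f : ℕ}

/-- the classes 20, 24, 30 -/
theorem big8 {q : ℕ} (hq : Fintype.card F = q) (hq1 : 1 ≤ q) {c : ℕ} (hc : c = 20 ∨ c = 24 ∨ c = 30) {r : ℕ}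
    (hr : Prim q c r) : Big ↥(Lie.chevE8.group F) r (Ph c q) c := by
  rcases hc with rfl | rfl | rfl
  · refine big_E8_20 hq ?_ hr
    rw [cast_Ph20 _ hq1]; ring
  · refine big_E8_24 hq ?_ hr
    rw [cast_Ph24 _ hq1]; ring
  · refine big_E8_30 hq ?_ hr
    rw [cast_Ph30 _ hq1]; ring

theorem prim_or_five {q c t : ℕ} (hq1 : 1 ≤ q) (hc : c = 20 ∨ c = 24 ∨ c = 30) (ht : t.Prime) (hd : t ∣ Ph c q) :
    Prim q c t ∨ (c = 20 ∧ t = 5) := by
  have hcl : Cls c := hc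
  rw [← ncl_mul c q] at hd
  rcases ht.dvd_mul.1 hd with h2 | h2
  · exact Or.inl (prim_of_dvd hcl hq1 ht h2)
  · have h3 := h2.trans (Nat.gcd_dvd_left _ _)
    rcases hc with rfl | rfl | rfl
    · exact Or.inr ⟨rfl, (Nat.prime_dvd_prime_iff_eq ht (by norm_num)).1 h3⟩
    · exact absurd (Nat.dvd_one.1 h3) ht.one_lt.ne'
    · exact absurd (Nat.dvd_one.1 h3) ht.one_lt.ne'

theorem no_both8 {q c c' t : ℕ} (hq : 2 ≤ q) (hc : c = 20 ∨ c = 24 ∨ c = 30) (hc' : c' = 20 ∨ c' = 24 ∨ c' = 30)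
    (hne : c ≠ c') (ht : t.Prime) (hd : t ∣ Ph c q) (hd' : t ∣ Ph c' q) : False := by
  have hq1 : 1 ≤ q := by omega
  have key : ∀ a b, (a = 20 ∨ a = 24 ∨ a = 30) → (b = 20 ∨ b = 24 ∨ b = 30) → a ≠ b → Prim q a t → t ∣ Ph b q → False := by
    intro a b ha hb hab h1 h2
    have h3 := h2.trans (Ph_dvd (show Cls b from hb) hq1)
    rw [h1.dvd_iff] at h3
    rcases ha with rfl | rfl | rfl <;> rcases hb with rfl | rfl | rfl <;> omega
  rcases prim_or_five hq1 hc ht hd with h1 | ⟨h1, h2⟩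
  · exact key c c' hc hc' hne h1 hd'
  · rcases prim_or_five hq1 hc' ht hd' with h3 | ⟨h3, h4⟩
    · exact key c' c hc' hc (Ne.symm hne) h3 hd
    · omega

theorem gchk20 : gchk 248 20 11 8 2 [(2, 1, 41)] = true := by decide +kernel
theorem gchk24 : gchk 248 24 11 8 2 [(2, 1, 241)] = true := by decide +kernel
theorem gchk30 : gchk 248 30 11 8 2 [] = true := by decide +kernel

/-- one class -/
theorem good8_one {G : Type*} [Group G] [Finite G] (hp : p.Prime) (hf : 1 ≤ f) {c c' : ℕ}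
    (hc : c = 20 ∨ c = 24 ∨ c = 30) (hc' : c' = 20 ∨ c' = 24 ∨ c' = 30) (hne : c ≠ c')
    (h' : Ord G (p ^ f) c' (Ph c' (p ^ f))) (hd : Nat.card G ∣ OL .E8 (p ^ f))
    (hh' : PP p (f * c') ≤ (Nat.gcd (Nat.card G) (PP p (f * c'))) ^ 2) {t : ℕ} (ht : t.Prime)
    (htc : ¬ Prim p (f * c) t) (h1 : t ∣ Ph c (p ^ f)) : Good G 248 t := by
  have hq2 : 2 ≤ p ^ f := hp.two_le.trans (Nat.le_self_pow (by omega) p)
  have hn : ¬ t ∣ Ph c' (p ^ f) := fun h2 => no_both8 hq2 hc hc' hne ht h1 h2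
  rcases hc' with rfl | rfl | rfl
  · rcases half_gt hp hf hq2 (by norm_num) (by norm_num) (by decide +kernel) (by norm_num) (by norm_num) gchk20 hh' with h2 | h2
    · exact good_gt h' hp.two_le hf (by norm_num) ht hn h2
    · simp only [List.mem_singleton, Prod.mk.injEq] at h2
      obtain ⟨rfl, rfl, h3⟩ := h2
      rcases prim_or_five (by norm_num) hc ht h1 with h4 | ⟨h4, h5⟩
      · rw [one_mul] at htc
        exact absurd h4 htc
      · exact absurd h4 hne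
  · rcases half_gt hp hf hq2 (by norm_num) (by norm_num) (by decide +kernel) (by norm_num) (by norm_num) gchk24 hh' with h2 | h2
    · exact good_gt h' hp.two_le hf (by norm_num) ht hn h2
    · simp only [List.mem_singleton, Prod.mk.injEq] at h2
      obtain ⟨rfl, rfl, h3⟩ := h2
      rcases prim_or_five (by norm_num) hc ht h1 with h4 | ⟨h4, rfl⟩
      · rw [one_mul] at htc
        exact absurd h4 htc
      · refine good_prH h' hp.two_le hf (by norm_num) ht hn h3 (by norm_num) fun k hk hkG => ?_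
        have h5 : k ≤ 5 := pow_bound (M := OL .E8 (2 ^ 1)) (by decide +kernel) (hkG.trans hd)
        interval_cases k <;> norm_num
  · rcases half_gt hp hf hq2 (by norm_num) (by norm_num) (by decide +kernel) (by norm_num) (by norm_num) gchk30 hh' with h2 | h2
    · exact good_gt h' hp.two_le hf (by norm_num) ht hn h2
    · simp at h2

/-- **reducedness** -/
theorem good8 {G : Type*} [Group G] [Finite G] (hp : p.Prime) (hf : 1 ≤ f) {c c' : ℕ}
    (hc : c = 20 ∨ c = 24 ∨ c = 30) (hc' : c' = 20 ∨ c' = 24 ∨ c' = 30) (hne : c ≠ c')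
    (h : Ord G (p ^ f) c (Ph c (p ^ f))) (h' : Ord G (p ^ f) c' (Ph c' (p ^ f))) (hd : Nat.card G ∣ OL .E8 (p ^ f))
    (hh : PP p (f * c) ≤ (Nat.gcd (Nat.card G) (PP p (f * c))) ^ 2)
    (hh' : PP p (f * c') ≤ (Nat.gcd (Nat.card G) (PP p (f * c'))) ^ 2) {t : ℕ} (ht : t.Prime)
    (htc : ¬ Prim p (f * c) t) (htc' : ¬ Prim p (f * c') t) : Good G 248 t := by
  by_cases h1 : t ∣ Ph c (p ^ f)
  · exact good8_one hp hf hc hc' hne h' hd hh' ht htc h1
  by_cases h2 : t ∣ Ph c' (p ^ f)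
  · exact good8_one hp hf hc' hc (Ne.symm hne) h hd hh ht htc' h2
  have a1 := (gcd_lb hp.two_le hf (by omega) (by omega) hh).1
  have a2 := (gcd_lb hp.two_le hf (by omega) (by omega) hh').1
  refine good_prod h h' hp.two_le hf (by omega) (by omega) hne ht h1 h2 ?_
  have a3 : 21 * 21 ≤ Nat.gcd (Nat.card G) (PP p (f * c)) * Nat.gcd (Nat.card G) (PP p (f * c')) :=
    Nat.mul_le_mul (by omega) (by omega)
  omega

/-- the common part -/
theorem main8 (tb : OrderTable.{0}) (hcyc : CycFixSolv.{0}) (hcf : CF) [CharP F p] (hp : p.Prime) (hf : 1 ≤ f)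
    (hq : Fintype.card F = p ^ f) {D : TD} (hY : D.Y = .E8) (hq0 : D.q₀ = 2) (hxs : D.exs = [])
    (ht : TblH 248 D [] D.e D.e') (hc : D.e = 20 ∨ D.e = 24) (hc' : D.e' = 24 ∨ D.e' = 30) (hne : D.e ≠ D.e')
    (B : Subgroup ↥(Lie.chevE8.group F)) (h1 : HAt p f D.e B) (h2 : HAt p f D.e' B) :
    ∃ S : Subgroup B, ConH p f (fun c => Ph c (p ^ f)) (fun c => c) D.e D.e' S ∧ ∃ g, IsNamed g S ∧ HasChar p g := by
  have := Fact.mk hp
  have hfin : Finite ↥(Lie.chevE8.group F) := inferInstance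
  have hT := named_e8 (F := F) tb
  rw [hq] at hT
  have hq2 : 2 ≤ p ^ f := hp.two_le.trans (Nat.le_self_pow (by omega) p)
  have hq1 : 1 ≤ p ^ f := by omega
  have hOL : num (.e8 (p ^ f)) = OL .E8 (p ^ f) := rfl
  have hdT : Nat.card ↥(Lie.chevE8.group F) ∣ OL .E8 (p ^ f) := by
    rw [← hOL, ← hT.eq]
    exact Dvd.intro_left _ rfl
  have hmem : ∀ c ∈ [D.e, D.e'], c = 20 ∨ c = 24 ∨ c = 30 := by
    intro c hc
    simp only [List.mem_cons, List.not_mem_nil, or_false] at hc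
    omega
  have hbig : ∀ c ∈ [D.e, D.e'], ∀ r, Prim (p ^ f) c r → Big ↥(Lie.chevE8.group F) r (Ph c (p ^ f)) c :=
    fun c hc r hr => big8 hq hq1 (hmem c hc) hr
  have hord : ∀ c ∈ [D.e, D.e'], Ord ↥(Lie.chevE8.group F) (p ^ f) c (Ph c (p ^ f)) :=
    fun c hc r hr x hx => (hbig c hc r hr).card x hx
  have me : D.e ∈ [D.e, D.e'] := by simp
  have me' : D.e' ∈ [D.e, D.e'] := by simp
  refine mainH tb hcyc hcf altAut (M := fun c => Ph c (p ^ f)) (E := fun c => c) ht hp hf (by rw [hq0]; exact hq2)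
    (F := F) fth_E8 (by rw [hY]; exact hdT) hbig h1 h2 ?_ (by simp [hxs]) me (fun r hr => ?_) (fun t ht htp htc htc' _ => ?_)
    (by simp)
  · exact sepH hp hf (M := fun c => Ph c (p ^ f)) (E := fun c => c) (by omega) (by omega) h1 h2
      (fun c hc => Ph_dvd (show Cls c from hmem c hc) hq1) (fun c hc s hs hd => le_seven'' hs (hmem c hc) hd)
      (fun h => by have := Nat.le_of_dvd (by omega) h; omega) (fun h => by
        rcases hc with hc | hc <;> rcases hc' with hc' | hc' <;> rw [hc, hc'] at h <;> omega)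
  · exact piso_E8 (F := F) hc (by rw [hq]; exact hr)
  · exact good8 hp hf (hmem _ me) (hmem _ me') hne ((hord _ me).sub B) ((hord _ me').sub B)
      ((Subgroup.card_subgroup_dvd_card B).trans hdT) h1.half h2.half ht htc htc'

/-- `PSU₄(q⁵)` -/
theorem kill_psu4q5 {c : ℕ} (hp : p.Prime) (hf : 1 ≤ f) (hc : den (.psu 4 (p ^ (f * 5))) * c = num (.psu 4 (p ^ (f * 5))))
    (hdvd : c ∣ num (.e8 (p ^ f))) : False := by
  have hq : 2 ≤ p ^ f := hp.two_le.trans (Nat.le_self_pow (by omega) _)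
  have h6 : Nat.gcd 4 (p ^ (f * 5) + 1) * (p ^ (f * 5) + 1) * c =
      (p ^ (f * 5)) ^ (4 * (4 - 1) / 2) * prU (p ^ (f * 5)) 4 := hc
  have hU : prU (p ^ (f * 5)) 4 = ((p ^ (f * 5)) ^ 1 + 1) * (((p ^ (f * 5)) ^ 2 - 1) * (((p ^ (f * 5)) ^ 3 + 1) *
    (((p ^ (f * 5)) ^ 4 - 1) * 1))) := rfl
  have hd := e8_dvd hdvd
  have h7 : Nat.gcd 4 (p ^ (f * 5) + 1) * c = (p ^ (f * 5)) ^ (4 * (4 - 1) / 2) *
      (((p ^ f) ^ 10 - 1) * (((p ^ f) ^ 20 - 1) * ((p ^ f) ^ 15 + 1))) := by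
    have e2 : (p ^ (f * 5)) ^ 2 = (p ^ f) ^ 10 := pow5 p f 2
    have e3 : (p ^ (f * 5)) ^ 3 = (p ^ f) ^ 15 := pow5 p f 3
    have e4 : (p ^ (f * 5)) ^ 4 = (p ^ f) ^ 20 := pow5 p f 4
    rw [hU, e2, e3, e4, pow_one] at h6
    apply Nat.eq_of_mul_eq_mul_left (show 0 < p ^ (f * 5) + 1 by omega)
    calc (p ^ (f * 5) + 1) * (Nat.gcd 4 (p ^ (f * 5) + 1) * c)
        = Nat.gcd 4 (p ^ (f * 5) + 1) * (p ^ (f * 5) + 1) * c := by ring
      _ = _ := h6
      _ = _ := by ring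
  have hgp : 0 < Nat.gcd 4 (p ^ (f * 5) + 1) := Nat.gcd_pos_of_pos_left _ (by norm_num)
  have hgl : Nat.gcd 4 (p ^ (f * 5) + 1) ≤ 4 := Nat.gcd_le_left _ (by norm_num)
  generalize Nat.gcd 4 (p ^ (f * 5) + 1) = D at *
  generalize (p ^ (f * 5)) ^ (4 * (4 - 1) / 2) = A at *
  clear h6 hU hc hdvd
  generalize p ^ f = q at *
  have b2 := sub_pos' (d := 2) hq (by norm_num)
  have b8 := sub_pos' (d := 8) hq (by norm_num)
  have b12 := sub_pos' (d := 12) hq (by norm_num)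
  have b14 := sub_pos' (d := 14) hq (by norm_num)
  have b18 := sub_pos' (d := 18) hq (by norm_num)
  have b20 := sub_pos' (d := 20) hq (by norm_num)
  have b24 := sub_pos' (d := 24) hq (by norm_num)
  have b30 := sub_pos' (d := 30) hq (by norm_num)
  have hc0 : 0 < c := pos_of_dvd (by positivity) hd
  have h30 : q ^ 30 - 1 = (q ^ 15 - 1) * (q ^ 15 + 1) := by
    have := Nat.sq_sub_sq (q ^ 15) 1
    rw [one_pow, ← pow_mul] at this
    rw [mul_comm]
    exact this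
  rw [h30] at hd
  obtain ⟨s, hs⟩ := exists_prim (q := q) (e := 10) hq (by norm_num) (by omega)
  refine cancel_prime hs.prime (Z := (q ^ 20 - 1) * (q ^ 15 + 1)) (by positivity) hc0
    (A := A) (x := q ^ 10 - 1) (D := D) (B := q ^ 120)
    (y := (q ^ 2 - 1) * (q ^ 8 - 1) * (q ^ 12 - 1) * (q ^ 14 - 1) * (q ^ 18 - 1) * (q ^ 24 - 1) * (q ^ 15 - 1)) h7
    (hd.trans (dvd_of_eq (by ring)))
    (hs.dvd (by norm_num)) (fun h => ?_) (hs.not_dvd_pow _) (fun h => ?_)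
  · have h9 := Cfsg.Agent.H563.KG.lt_of_prim hq (by norm_num) hs
    have := Nat.le_of_dvd hgp h
    omega
  · rcases hs.prime.dvd_mul.1 h with h | h
    · rcases hs.prime.dvd_mul.1 h with h | h
      · rcases hs.prime.dvd_mul.1 h with h | h
        · rcases hs.prime.dvd_mul.1 h with h | h
          · rcases hs.prime.dvd_mul.1 h with h | h
            · rcases hs.prime.dvd_mul.1 h with h | h
              · exact hs.not_dvd_sub (by norm_num) h
              · exact hs.not_dvd_sub (by norm_num) h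
            · exact hs.not_dvd_sub (by norm_num) h
          · exact hs.not_dvd_sub (by norm_num) h
        · exact hs.not_dvd_sub (by norm_num) h
      · exact hs.not_dvd_sub (by norm_num) h
    · exact hs.not_dvd_sub (by norm_num) h

/-- `F₄(q^(5/2))` -/
theorem kill_f4q5 {c k : ℕ} (hp : p.Prime) (hf : 1 ≤ f) (hk : f = 2 * k) (hc : den (.f4 (p ^ (k * 5))) * c = num (.f4 (p ^ (k * 5))))
    (hdvd : c ∣ num (.e8 (p ^ f))) : False := by
  have h5' : 2 * (k * 5) = 5 * f := by omega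
  have hq : 2 ≤ p ^ f := hp.two_le.trans (Nat.le_self_pow (by omega) _)
  have hd := e8_dvd hdvd
  generalize k * 5 = f₁ at *
  have h6 : 1 * c = (p ^ f₁) ^ 24 * (((p ^ f₁) ^ 2 - 1) * ((p ^ f₁) ^ 6 - 1) * ((p ^ f₁) ^ 8 - 1) *
      ((p ^ f₁) ^ 12 - 1)) := hc
  have key : ∀ k, (p ^ f₁) ^ (2 * k) = (p ^ f) ^ (5 * k) := fun k => by
    rw [← pow_mul, ← pow_mul, show f₁ * (2 * k) = 2 * f₁ * k by ring, h5']
    congr 1
    ring
  have e1 : (p ^ f₁) ^ 2 = (p ^ f) ^ 5 := key 1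
  have e2 : (p ^ f₁) ^ 6 = (p ^ f) ^ 15 := key 3
  have e3 : (p ^ f₁) ^ 8 = (p ^ f) ^ 20 := key 4
  have e4 : (p ^ f₁) ^ 12 = (p ^ f) ^ 30 := key 6
  rw [e1, e2, e3, e4] at h6
  generalize (p ^ f₁) ^ 24 = A at *
  clear hc hdvd key e1 e2 e3 e4
  generalize p ^ f = q at *
  have b2 := sub_pos' (d := 2) hq (by norm_num)
  have b8 := sub_pos' (d := 8) hq (by norm_num)
  have b12 := sub_pos' (d := 12) hq (by norm_num)
  have b14 := sub_pos' (d := 14) hq (by norm_num)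
  have b18 := sub_pos' (d := 18) hq (by norm_num)
  have b20 := sub_pos' (d := 20) hq (by norm_num)
  have b24 := sub_pos' (d := 24) hq (by norm_num)
  have b30 := sub_pos' (d := 30) hq (by norm_num)
  have hc0 : 0 < c := pos_of_dvd (by positivity) hd
  obtain ⟨s, hs⟩ := exists_prim (q := q) (e := 5) hq (by norm_num) (by omega)
  refine cancel_prime hs.prime (Z := (q ^ 20 - 1) * (q ^ 30 - 1)) (by positivity) hc0
    (A := A * (q ^ 15 - 1)) (x := q ^ 5 - 1) (D := 1) (B := q ^ 120)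
    (y := (q ^ 2 - 1) * (q ^ 8 - 1) * (q ^ 12 - 1) * (q ^ 14 - 1) * (q ^ 18 - 1) * (q ^ 24 - 1)) (by rw [h6]; ring)
    (hd.trans (dvd_of_eq (by ring)))
    (hs.dvd (by norm_num)) (fun h => ?_) (hs.not_dvd_pow _) (fun h => ?_)
  · exact hs.prime.one_lt.ne' (Nat.dvd_one.1 h)
  · rcases hs.prime.dvd_mul.1 h with h | h
    · rcases hs.prime.dvd_mul.1 h with h | h
      · rcases hs.prime.dvd_mul.1 h with h | h
        · rcases hs.prime.dvd_mul.1 h with h | h
          · rcases hs.prime.dvd_mul.1 h with h | h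
            · exact hs.not_dvd_sub (by norm_num) h
            · exact hs.not_dvd_sub (by norm_num) h
          · exact hs.not_dvd_sub (by norm_num) h
        · exact hs.not_dvd_sub (by norm_num) h
      · exact hs.not_dvd_sub (by norm_num) h
    · exact hs.not_dvd_sub (by norm_num) h

/-- **`E₈(q)`, the classes 24, 30.** -/
theorem KH8a (tb : OrderTable.{0}) (hcyc : CycFixSolv.{0}) (hcf : CF) [CharP F p] (hp : p.Prime) (hf : 1 ≤ f)
    (hq : Fintype.card F = p ^ f) (B : Subgroup ↥(Lie.chevE8.group F)) (hoff : HOff p f [24, 30] B) : B = ⊤ := by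
  have := Fact.mk hp
  have hT := named_e8 (F := F) tb
  rw [hq] at hT
  obtain ⟨S, hS, g, hg, hch⟩ := main8 tb hcyc hcf hp hf hq (D := D8a) rfl rfl rfl tblH_8a (Or.inr rfl) (Or.inr rfl)
    (by decide) B (hoff 24 (by decide)) (hoff 30 (by decide))
  have := hS.nor
  have hdS : Nat.card S ∣ num (.e8 (p ^ f)) := IsNamed.card_dvd hT S
  obtain ⟨r, hr, hrS⟩ := hS.h1 24 (by decide)
  have hr' := prim_q hf hr
  have hpiso : PIso p r S :=
    ((piso_E8 (F := F) (Or.inr rfl) (by rw [hq]; exact hr') : PIso p r ↥(Lie.chevE8.group F)).sub B).sub S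
  rcases Cfsg.Agent.H72.Same.charp_e8_2430 hp hf hg.cond hch hg.eq hdS (hS.h1 24 (by decide)) (hS.h1 30 (by decide)) with
    rfl | rfl | rfl | rfl | rfl | rfl
  · exact (kill_psl5 hp hg hr' hrS hpiso).elim
  · have h6 : Nat.gcd 2 (p ^ (f * 3) - 1) * Nat.card S = (p ^ (f * 3)) ^ (5 ^ 2) * prB (p ^ (f * 3)) 5 := hg.eq
    exact (kill_q3 hp hf (Nat.gcd_pos_of_pos_left _ (by norm_num))
      ((Nat.gcd_le_left _ (by norm_num)).trans (by norm_num)) h6 hdS).elim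
  · have h6 : 2 * Nat.card S = (p ^ (f * 3)) ^ (5 ^ 2) * prB (p ^ (f * 3)) 5 := hg.eq
    exact (kill_q3 hp hf (by norm_num) (by norm_num) h6 hdS).elim
  · have h6 : Nat.gcd 4 ((p ^ (f * 3)) ^ 6 - 1) * Nat.card S =
        (p ^ (f * 3)) ^ (6 * (6 - 1)) * (((p ^ (f * 3)) ^ 6 - 1) * prB (p ^ (f * 3)) (6 - 1)) := hg.eq
    rw [← mul_assoc] at h6
    exact (kill_q3 hp hf (Nat.gcd_pos_of_pos_left _ (by norm_num))
      (Nat.gcd_le_left _ (by norm_num)) h6 hdS).elim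
  · exact (kill_ominus5 hp hg hr' hrS hpiso).elim
  · exact eq_top_of_name hT hg

/-- **`E₈(q)`, the classes 20, 30.** -/
theorem KH8b (tb : OrderTable.{0}) (hcyc : CycFixSolv.{0}) (hcf : CF) [CharP F p] (hp : p.Prime) (hf : 1 ≤ f)
    (hq : Fintype.card F = p ^ f) (B : Subgroup ↥(Lie.chevE8.group F)) (hoff : HOff p f [20, 30] B) : B = ⊤ := by
  have := Fact.mk hp
  have hT := named_e8 (F := F) tb
  rw [hq] at hT
  obtain ⟨S, hS, g, hg, hch⟩ := main8 tb hcyc hcf hp hf hq (D := D8b) rfl rfl rfl tblH_8b (Or.inl rfl) (Or.inr rfl)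
    (by decide) B (hoff 20 (by decide)) (hoff 30 (by decide))
  have := hS.nor
  have hdS : Nat.card S ∣ num (.e8 (p ^ f)) := IsNamed.card_dvd hT S
  obtain ⟨r, hr, hrS⟩ := hS.h1 20 (by decide)
  have hr' := prim_q hf hr
  have hpiso : PIso p r S :=
    ((piso_E8 (F := F) (Or.inl rfl) (by rw [hq]; exact hr') : PIso p r ↥(Lie.chevE8.group F)).sub B).sub S
  rcases Cfsg.Agent.H72.Same.charp_e8_2030 hp hf hg.cond hch hg.eq hdS (hS.h1 20 (by decide)) (hS.h1 30 (by decide)) with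
    rfl | rfl | rfl | rfl | rfl | ⟨k, hk, rfl⟩ | rfl
  · exact (kill_psl3' hp hg hr' hrS hpiso).elim
  · have h6 : Nat.gcd 2 (p ^ (f * 5) - 1) * Nat.card S = (p ^ (f * 5)) ^ (3 ^ 2) * prB (p ^ (f * 5)) 3 := hg.eq
    exact (kill_q5 hp hf (Nat.gcd_pos_of_pos_left _ (by norm_num))
      ((Nat.gcd_le_left _ (by norm_num)).trans (by norm_num)) h6 hdS).elim
  · have h6 : 2 * Nat.card S = (p ^ (f * 5)) ^ (3 ^ 2) * prB (p ^ (f * 5)) 3 := hg.eq
    exact (kill_q5 hp hf (by norm_num) (by norm_num) h6 hdS).elim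
  · exact (kill_psu4q5 hp hf hg.eq hdS).elim
  · have h6 : Nat.gcd 4 ((p ^ (f * 5)) ^ 4 - 1) * Nat.card S =
        (p ^ (f * 5)) ^ (4 * (4 - 1)) * (((p ^ (f * 5)) ^ 4 - 1) * prB (p ^ (f * 5)) (4 - 1)) := hg.eq
    rw [← mul_assoc] at h6
    exact (kill_q5 hp hf (Nat.gcd_pos_of_pos_left _ (by norm_num))
      (Nat.gcd_le_left _ (by norm_num)) h6 hdS).elim
  · exact (kill_f4q5 hp hf hk hg.eq hdS).elim
  · exact eq_top_of_name hT hg

/-- **`E₈(q)`, the classes 20, 24.** -/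
theorem KH8c (tb : OrderTable.{0}) (hcyc : CycFixSolv.{0}) (hcf : CF) [CharP F p] (hp : p.Prime) (hf : 1 ≤ f)
    (hq : Fintype.card F = p ^ f) (B : Subgroup ↥(Lie.chevE8.group F)) (hoff : HOff p f [20, 24] B) : B = ⊤ := by
  have := Fact.mk hp
  have hT := named_e8 (F := F) tb
  rw [hq] at hT
  obtain ⟨S, hS, g, hg, hch⟩ := main8 tb hcyc hcf hp hf hq (D := D8c) rfl rfl rfl tblH_8c (Or.inl rfl) (Or.inl rfl)
    (by decide) B (hoff 20 (by decide)) (hoff 24 (by decide))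
  have := hS.nor
  have hdS : Nat.card S ∣ num (.e8 (p ^ f)) := IsNamed.card_dvd hT S
  obtain rfl := Cfsg.Agent.H72.Same.charp_e8_2024 hp hf hg.cond hch hg.eq hdS (hS.h1 20 (by decide)) (hS.h1 24 (by decide))
  exact eq_top_of_name hT hg

end

end Cfsg.Agent.H73.Rg
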