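import Cfsg.Agent.H365.Zsig
import Cfsg.Agent.H436.Ppd

/-!
# The p-primitive part (helper73)

`PP p k` : the part of `Φ_k(p)` composed of the primes `r` with `p` of order `k` modulo `r`.
-/

set_option autoImplicit false
set_option exponentiation.threshold 7000

namespace Cfsg.Agent.H73.Rg

open Cfsg.Agent.H365.Zsig Cfsg.Agent.Lib.Zsigmondy Cfsg.Agent.H436

/-- the `p`-primitive part of `p ^ k - 1` -/
noncomputable def PP (p k : ℕ) : ℕ := Ph k p / Nat.gcd (Ph k p) k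

variable {p k r : ℕ}

theorem prim_of_orderOf (hp : 2 ≤ p) (hk : 1 ≤ k) (hr : r.Prime) (h : orderOf (p : ZMod r) = k) : Prim p k r where
  prime := hr
  dvd_iff m := by rw [dvd_pow_sub_one_iff (by omega), h]
  not_dvd hd := by
    have := Fact.mk hr
    have h0 : (p : ZMod r) = 0 := (ZMod.natCast_eq_zero_iff p r).2 hd
    rw [h0] at h
    have h1 : (0 : ZMod r) ^ k = 1 := by rw [← h]; exact pow_orderOf_eq_one _
    rw [zero_pow (by omega)] at h1
    exact zero_ne_one h1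

theorem orderOf_of_prim (hp : 2 ≤ p) (h : Prim p k r) : orderOf (p : ZMod r) = k := by
  apply Nat.dvd_antisymm
  · rw [← dvd_pow_sub_one_iff (by omega)]; exact h.dvd dvd_rfl
  · rw [← h.dvd_iff, dvd_pow_sub_one_iff (by omega)]

theorem PP_dvd_Ph : PP p k ∣ Ph k p := Nat.div_dvd_of_dvd (Nat.gcd_dvd_left _ _)

theorem PP_dvd (hp : 1 ≤ p) (hk : 1 ≤ k) : PP p k ∣ p ^ k - 1 := PP_dvd_Ph.trans (Ph_dvd (by omega) hp)

theorem PP_mul : PP p k * Nat.gcd (Ph k p) k = Ph k p := Nat.div_mul_cancel (Nat.gcd_dvd_left _ _)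

theorem Ph_le_PP_mul (hk : 1 ≤ k) : Ph k p ≤ PP p k * k := by
  conv_lhs => rw [← PP_mul]
  exact Nat.mul_le_mul_left _ (Nat.gcd_le_right _ (by omega))

/-- a prime divisor of `PP p k` is `p`-primitive -/
theorem prim_of_dvd_PP (hp : 2 ≤ p) (hk : 3 ≤ k) (hr : r.Prime) (h : r ∣ PP p k) : Prim p k r := by
  rcases prime_dvd_Ph (by omega) hp hr (h.trans PP_dvd_Ph) with h1 | ⟨j, m, h1, h2, h3, h4, h5⟩
  · exact prim_of_orderOf hp (by omega) hr h1
  · exfalso
    apply sq_not_dvd hk hp hr h1 h2 h3 h4 h5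
    have h6 : r ∣ Nat.gcd (Ph k p) k := Nat.dvd_gcd (h.trans PP_dvd_Ph) (h1 ▸ (dvd_pow_self r (Nat.succ_ne_zero j)).mul_right m)
    rw [sq, ← PP_mul (p := p) (k := k)]
    exact mul_dvd_mul h h6

theorem mod_of_prim' (hp : 2 ≤ p) (h : Prim p k r) : k ∣ r - 1 := by
  rw [← orderOf_of_prim hp h]
  exact orderOf_dvd_pred h.prime h.not_dvd

theorem PP_pos (hp : 2 ≤ p) (hk : 2 ≤ k) : 0 < PP p k := by
  have h1 := Ph_gt_one hk hp
  rw [← PP_mul] at h1
  exact Nat.pos_of_ne_zero fun h => by rw [h, zero_mul] at h1; omega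

/-- a `p`-primitive prime divides `PP p k` -/
theorem dvd_PP (hp : 2 ≤ p) (hk : 3 ≤ k) (h : Prim p k r) : r ∣ PP p k := by
  have hr := h.prime
  have hx : r ∣ Ph k p := by
    -- `p ^ k - 1` is the product of the cyclotomic values
    have h1 : (∏ d ∈ k.divisors, (Ph d p : ℤ)) = (p : ℤ) ^ k - 1 := by
      have h2 := congrArg (Polynomial.eval (p : ℤ)) (Polynomial.prod_cyclotomic_eq_X_pow_sub_one (show 0 < k by omega) ℤ)
      rw [Polynomial.eval_prod] at h2
      simp only [Polynomial.eval_sub, Polynomial.eval_pow, Polynomial.eval_X, Polynomial.eval_one] at h2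
      rw [← h2]
      exact Finset.prod_congr rfl fun d _ => (Ph_cast (by omega)).symm
    have h3 : ∏ d ∈ k.divisors, Ph d p = p ^ k - 1 := by
      have h4 : ((p ^ k - 1 : ℕ) : ℤ) = (p : ℤ) ^ k - 1 := by
        rw [Nat.cast_sub (Nat.one_le_pow _ _ (by omega))]; push_cast; rfl
      have h5 : ((∏ d ∈ k.divisors, Ph d p : ℕ) : ℤ) = ((p ^ k - 1 : ℕ) : ℤ) := by rw [h4, ← h1]; push_cast; rfl
      exact_mod_cast h5
    have h4 : r ∣ ∏ d ∈ k.divisors, Ph d p := by rw [h3]; exact h.dvd dvd_rfl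
    obtain ⟨d, hd, h5⟩ := (Prime.dvd_finsetProd_iff hr.prime _).1 h4
    have h6 : 0 < d := Nat.pos_of_mem_divisors hd
    have h7 : k ∣ d := (h.dvd_iff d).1 (h5.trans (Ph_dvd h6 (by omega)))
    rw [Nat.dvd_antisymm h7 (Nat.dvd_of_mem_divisors hd)]
    exact h5
  rw [← PP_mul (p := p) (k := k)] at hx
  refine (hr.dvd_mul.1 hx).resolve_right fun h1 => ?_
  have h2 : r ∣ k := h1.trans (Nat.gcd_dvd_right _ _)
  have h3 := Nat.le_of_dvd (by omega) h2
  have h4 := Nat.le_of_dvd (by have := hr.two_le; omega) (mod_of_prim' hp h)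
  omega

theorem one_lt_PP (hp : 2 ≤ p) (hk : 3 ≤ k) (h6 : ¬ (p = 2 ∧ k = 6)) : 1 < PP p k := by
  obtain ⟨r, hr⟩ := exists_prim hp hk h6
  exact lt_of_lt_of_le hr.prime.one_lt (Nat.le_of_dvd (PP_pos hp (by omega)) (dvd_PP hp hk hr))

/-- the lower bound -/
theorem PP_lower {e f P : ℕ} (hp : 2 ≤ p) (he : 1 ≤ e) (hf : 1 ≤ f) (hP : P < p) :
    P ^ e.totient ≤ PP p (e * f) * (e * f) := by
  refine le_trans ?_ (Ph_le_PP_mul (Nat.mul_pos he hf))
  refine le_trans ?_ (Ph_lower hp)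
  calc P ^ e.totient ≤ (p - 1) ^ e.totient := Nat.pow_le_pow_left (by omega) _
    _ ≤ (p - 1) ^ (e * f).totient := Nat.pow_le_pow_right (by omega)
      (Nat.le_of_dvd (Nat.totient_pos.2 (Nat.mul_pos he hf)) (Nat.totient_dvd_of_dvd (Dvd.intro _ rfl)))

/-! ### evaluation -/

/-- `Φ_k(q)` for the number `k` with the list `l` of prime powers `(P, j)`, `k = ∏ P ^ (j + 1)` -/
def cyc : List (ℕ × ℕ) → ℕ → ℕ
  | [], q => q - 1
  | (P, j) :: l, q => cyc l (q ^ P ^ (j + 1)) / cyc l (q ^ P ^ j)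

/-- the number of a list -/
def nl (l : List (ℕ × ℕ)) : ℕ := (l.map fun x => x.1 ^ (x.2 + 1)).prod

theorem Ph_one {q : ℕ} (hq : 1 ≤ q) : Ph 1 q = q - 1 := by
  have h : ((Ph 1 q : ℕ) : ℤ) = ((q - 1 : ℕ) : ℤ) := by
    rw [← Ph_cast hq, Polynomial.cyclotomic_one, Nat.cast_sub hq]; simp
  exact_mod_cast h

theorem cyc_eq : ∀ (l : List (ℕ × ℕ)), (∀ x ∈ l, x.1.Prime) → (l.map Prod.fst).Nodup → ∀ q, 2 ≤ q →
    Ph (nl l) q = cyc l q
  | [], _, _, q, hq => by
    show Ph 1 q = q - 1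
    exact Ph_one (by omega)
  | (P, j) :: l, h, hn, q, hq => by
    have hP : P.Prime := h _ List.mem_cons_self
    have hn' : P ∉ l.map Prod.fst ∧ (l.map Prod.fst).Nodup := List.nodup_cons.1 hn
    have hl : ∀ x ∈ l, x.1.Prime := fun x hx => h x (List.mem_cons_of_mem _ hx)
    have hPl : ¬ P ∣ nl l := by
      intro hd
      unfold nl at hd
      rw [Prime.dvd_prod_iff hP.prime] at hd
      obtain ⟨y, hy, hd⟩ := hd
      obtain ⟨x, hx, rfl⟩ := List.mem_map.1 hy
      exact hn'.1 (List.mem_map.2 ⟨x, hx, ((Nat.prime_dvd_prime_iff_eq hP (hl x hx)).1 (hP.dvd_of_dvd_pow hd)).symm⟩)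
    have hb : 2 ≤ q ^ P ^ j := hq.trans (Nat.le_self_pow (pow_pos hP.pos j).ne' q)
    have hb2 : 2 ≤ q ^ P ^ (j + 1) := hq.trans (Nat.le_self_pow (pow_pos hP.pos _).ne' q)
    have h1 := Ph_mul (q := q) (k := j) hq hP hPl
    rw [← pow_mul, ← pow_succ] at h1
    have h2 : nl ((P, j) :: l) = P ^ (j + 1) * nl l := by simp [nl]
    rw [h2]
    show _ = cyc l (q ^ P ^ (j + 1)) / cyc l (q ^ P ^ j)
    rw [← cyc_eq l hl hn'.2 _ hb2, ← cyc_eq l hl hn'.2 _ hb, h1]
    refine (Nat.mul_div_cancel _ (Nat.pos_of_ne_zero ?_)).symm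
    intro h0
    have h3 : 0 < nl l := Nat.pos_of_ne_zero fun h => by rw [h] at hPl; exact hPl (dvd_zero _)
    have h4 := Ph_lower (b := q ^ P ^ j) (m := nl l) hb
    rw [h0] at h4
    have h5 : 0 < (q ^ P ^ j - 1) ^ (nl l).totient := pow_pos (by omega) _
    omega

/-- the exponent of `l` in `k` -/
def vl (l : ℕ) : ℕ → ℕ → ℕ
  | 0, _ => 0
  | n + 1, k => if k % l == 0 then vl l n (k / l) + 1 else 0

/-- the small primes -/
def sps : List ℕ := [2, 3, 5, 7, 11, 13, 17, 19, 23, 29, 31, 37, 41, 43, 47, 53, 59, 61, 67, 71, 73, 79, 83, 89, 97, 101,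
  103, 107, 109, 113, 127, 131, 137, 139, 149, 151, 157, 163, 167, 173, 179, 181, 191, 193, 197, 199, 211, 223, 227, 229, 233, 239, 241,
  251, 257, 263, 269, 271, 277, 281, 283, 293, 307, 311]

/-- the factorisation of `k` -/
def fl (k : ℕ) : List (ℕ × ℕ) := (sps.filter fun l => k % l == 0).map fun l => (l, vl l 12 k - 1)

/-- the computable form of `PP` -/
def pc (p k : ℕ) : ℕ := cyc (fl k) p / Nat.gcd (cyc (fl k) p) k

theorem sps_prime : ∀ l ∈ sps, l.Prime := by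
  have h : (sps.all fun l => decide (l.Prime)) = true := by decide +kernel
  intro l hl
  simpa using List.all_eq_true.1 h l hl

theorem PP_eq (hk : nl (fl k) = k) (hp : 2 ≤ p) : PP p k = pc p k := by
  have h1 : Ph k p = cyc (fl k) p := by
    have h2 := cyc_eq (fl k) (fun x hx => by
      obtain ⟨l, hl, rfl⟩ := List.mem_map.1 hx
      exact sps_prime l (List.mem_of_mem_filter hl)) (by
      have h3 : (fl k).map Prod.fst = sps.filter fun l => k % l == 0 := by
        unfold fl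
        rw [List.map_map]
        exact List.map_id' _
      rw [h3]
      exact List.Nodup.filter _ (by decide +kernel)) p hp
    rw [hk] at h2
    exact h2
  unfold PP pc
  rw [h1]

/-- the numbers below 620 which are factorised by `fl` -/
def okk (k : ℕ) : Bool := nl (fl k) == k

end Cfsg.Agent.H73.Rg
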